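import Cfsg.Agent.Lib.ReeTorus80.Char
import Cfsg.Agent.Lib.AllAbelian80.HypOfCtx
import Cfsg.Agent.Lib.JankoThompson.Main

/-!
# Ree order: the setting in a simple group with centraliser `2 × PSL(2,q)`

Owner: helper80.
-/

set_option autoImplicit false
set_option linter.unusedSectionVars false
set_option linter.style.haveILetI false

universe u

namespace Cfsg.Agent.Lib.ReeTorus80

open Subgroup Cfsg.Agent.Lib.JankoThompson
open Cfsg.Agent.Lib.Walter Cfsg.Agent.Lib.Walter.NoField Cfsg.Agent.Lib.Walter66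

section Torus

variable {G : Type*} [Group G] {t : G} {K : Subgroup G} (D : GSide.TorusData t K)

theorem comm_H₀ (hU : ∀ a ∈ D.U, ∀ b ∈ D.U, a * b = b * a) {a b : G} (ha : a ∈ D.H₀)
    (hb : b ∈ D.H₀) : a * b = b * a := by
  obtain ⟨v, hv, x, hx, rfl⟩ := D.mem_H₀.1 ha
  obtain ⟨v', hv', x', hx', rfl⟩ := D.mem_H₀.1 hb
  exact (((D.V_comm hv hv').mul_right (D.V_comm_U hx' hv).symm).mul_left
    ((D.V_comm_U hx hv').mul_right (show Commute x x' from hU x hx x' hx'))).eq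

theorem sq_H₀ {v x : G} (hv : v ∈ D.V) (hx : x ∈ D.U) : v * x * (v * x) = x * x := by
  rw [show v * x * (v * x) = v * (x * v) * x by group, (D.V_comm_U hx hv).eq, ← mul_assoc v v,
    D.sq_V hv, one_mul]

theorem sq_eq_one_iff {g : G} (hg : g ∈ D.H₀) : g * g = 1 ↔ g ∈ D.V := by
  refine ⟨fun h => ?_, D.sq_V⟩
  obtain ⟨v, hv, x, hx, rfl⟩ := D.mem_H₀.1 hg
  rw [sq_H₀ D hv hx] at h
  rwa [D.eq_one_of_sq hx h, mul_one]

theorem card_sq_H₀ : Nat.card {g : D.H₀ // (g : G) * g = 1} = 4 := by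
  rw [← D.card_V]
  exact Nat.card_congr
    { toFun := fun g => ⟨g.1, (sq_eq_one_iff D g.1.2).1 g.2⟩
      invFun := fun v => ⟨⟨v, D.V_le_H₀ v.2⟩, D.sq_V v.2⟩
      left_inv := fun _ => rfl
      right_inv := fun _ => rfl }

theorem normalizer_H₀ : normalizer (D.H₀ : Set G) = D.N := by
  refine le_antisymm (fun g hg => D.mem_N.2 fun v hv => ?_)
    fun g hg => mem_normalizer_iff.2 fun x => ⟨D.conj_H₀ hg, fun hx => ?_⟩
  · exact (sq_eq_one_iff D ((mem_normalizer_iff.1 hg v).1 (D.V_le_H₀ hv))).1 (by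
      rw [show g * v * g⁻¹ * (g * v * g⁻¹) = g * (v * v) * g⁻¹ by group, D.sq_V hv, mul_one,
        mul_inv_cancel])
  · have := D.conj_H₀ (inv_mem hg) hx
    rwa [show g⁻¹ * (g * x * g⁻¹) * g⁻¹⁻¹ = x by group] at this

theorem mem_support {y : G} (hT : D.T₀ = D.U) (hy : y ∈ D.U) (h1 : y ≠ 1) : y ∈ D.support :=
  ⟨1, one_mem _, y, hy, (one_mul y).symm, 1, by rw [pow_one, hT]; exact hy, by rwa [pow_one]⟩

/-- The centraliser of a non-trivial element of `U`. -/
theorem cent_U (hT : D.T₀ = D.U) (hU : ∀ a ∈ D.U, ∀ b ∈ D.U, a * b = b * a)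
    (hfix : ∀ y ∈ D.U, D.r * y = y * D.r → y = 1) {y g : G} (hy : y ∈ D.U) (h1 : y ≠ 1)
    (hg : g * y = y * g) : g ∈ D.H₀ := by
  have hs := mem_support D hT hy h1
  obtain ⟨a, ha, ⟨b, i⟩, rfl⟩ := D.exists_rep (D.fusion hs (by rwa [hg, mul_inv_cancel_right]))
  set z := D.rep (b, i) with hz
  have hzy : z * y * z⁻¹ = y := by
    have hay := comm_H₀ D hU (D.U_le_H₀ hy) ha
    calc z * y * z⁻¹ = a⁻¹ * (a * z * y) * z⁻¹ := by group
      _ = a⁻¹ * (y * (a * z)) * z⁻¹ := by rw [hg]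
      _ = a⁻¹ * (y * a) := by group
      _ = y := by rw [hay, inv_mul_cancel_left]
  have hR : D.r ^ (i : ℕ) * y * (D.r ^ (i : ℕ))⁻¹ = y ∨
      D.r ^ (i : ℕ) * y * (D.r ^ (i : ℕ))⁻¹ = y⁻¹ ∧ b = true := by
    rw [hz, GSide.TorusData.rep] at hzy
    cases b
    · simp only [Bool.false_eq_true, if_false, one_mul] at hzy
      exact Or.inl hzy
    · simp only [if_true] at hzy
      refine Or.inr ⟨?_, rfl⟩
      set y' := D.r ^ (i : ℕ) * y * (D.r ^ (i : ℕ))⁻¹ with hy'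
      have h2 : D.w * y' * D.w⁻¹ = y'⁻¹ :=
        D.w_inv _ (D.T_le.antisymm (hT ▸ D.T₀_le) ▸ D.pow_r_conj_U _ hy)
      rw [← inv_inj, inv_inv, ← h2, hy']
      refine (Eq.trans ?_ hzy)
      group
  have hi : i = 0 := by
    by_contra hi
    have h2 : D.r ^ (2 * (i : ℕ)) * y * (D.r ^ (2 * (i : ℕ)))⁻¹ = y := by
      rw [two_mul, pow_add, mul_inv_rev]
      rcases hR with e | ⟨e, -⟩
      · rw [show D.r ^ (i : ℕ) * D.r ^ (i : ℕ) * y * ((D.r ^ (i : ℕ))⁻¹ * (D.r ^ (i : ℕ))⁻¹) =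
          D.r ^ (i : ℕ) * (D.r ^ (i : ℕ) * y * (D.r ^ (i : ℕ))⁻¹) * (D.r ^ (i : ℕ))⁻¹ by group, e, e]
      · rw [show D.r ^ (i : ℕ) * D.r ^ (i : ℕ) * y * ((D.r ^ (i : ℕ))⁻¹ * (D.r ^ (i : ℕ))⁻¹) =
          D.r ^ (i : ℕ) * (D.r ^ (i : ℕ) * y * (D.r ^ (i : ℕ))⁻¹) * (D.r ^ (i : ℕ))⁻¹ by group, e,
          show D.r ^ (i : ℕ) * y⁻¹ * (D.r ^ (i : ℕ))⁻¹ =
            (D.r ^ (i : ℕ) * y * (D.r ^ (i : ℕ))⁻¹)⁻¹ by group, e, inv_inv]
    have hc : Commute (D.r ^ (2 * (i : ℕ))) y := mul_inv_eq_iff_eq_mul.1 h2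
    have hc' : Commute D.r y := by
      have hi' : (i : ℕ) = 1 ∨ (i : ℕ) = 2 := by
        have h3 := i.isLt
        have h4 : (i : ℕ) ≠ 0 := fun e => hi (Fin.ext e)
        omega
      rcases hi' with e | e <;> rw [e] at hc
      · have := hc.pow_left 2
        rwa [← pow_mul, show 2 * 1 * 2 = 3 + 1 by norm_num, pow_succ, D.r_cube, one_mul] at this
      · rwa [show 2 * 2 = 3 + 1 by norm_num, pow_succ, D.r_cube, one_mul] at hc
    exact h1 (hfix y hy hc'.eq)
  subst hi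
  rcases hR with e | ⟨e, hb⟩
  · cases b
    · simpa [hz, GSide.TorusData.rep] using ha
    · exfalso
      simp only [hz, GSide.TorusData.rep, if_true, Fin.val_zero, pow_zero, mul_one] at hzy
      rw [D.w_inv y (D.T_le.antisymm (hT ▸ D.T₀_le) ▸ hy)] at hzy
      exact h1 (D.eq_one_of_sq hy (mul_eq_one_iff_eq_inv.2 hzy.symm))
  · exfalso
    simp only [Fin.val_zero, pow_zero, one_mul, inv_one, mul_one] at e
    exact h1 (D.eq_one_of_sq hy (mul_eq_one_iff_eq_inv.2 e))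

/-- Exactly the elements of `H₀ w` are involutions inverting an element of `H₀` of order above two. -/
theorem nInv_H₀ [Finite G] (hT : D.T₀ = D.U) (hU : ∀ a ∈ D.U, ∀ b ∈ D.U, a * b = b * a) {g : G}
    (hg : g ∈ D.H₀) (h2 : g * g ≠ 1) : nInv g = Nat.card D.H₀ := by
  have hTU : D.T = D.U := D.T_le.antisymm (hT ▸ D.T₀_le)
  have hw : ∀ a ∈ D.H₀, D.w * a * D.w⁻¹ = a⁻¹ := by
    intro a ha
    obtain ⟨v, hv, x, hx, rfl⟩ := D.mem_H₀.1 ha
    rw [show D.w * (v * x) * D.w⁻¹ = (D.w * v * D.w⁻¹) * (D.w * x * D.w⁻¹) by group,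
      (D.V_comm_w hv).eq, mul_inv_cancel_right, D.w_inv x (hTU ▸ hx), mul_inv_rev, D.inv_V hv,
      ((D.V_comm_U hx hv).inv_left).eq]
  have hsq : ∀ a ∈ D.H₀, a * D.w * (a * D.w) = 1 := fun a ha => by
    rw [show a * D.w * (a * D.w) = a * (D.w * a * D.w⁻¹) * (D.w * D.w) by group, hw a ha, D.w_sq,
      mul_inv_cancel, one_mul]
  have hne : ∀ a ∈ D.H₀, a * D.w ≠ 1 := fun a ha e =>
    D.w_not_mem_H₀ (by rw [eq_inv_of_mul_eq_one_right e]; exact inv_mem ha)
  refine (Nat.card_congr (Equiv.ofBijective (fun a : ↥D.H₀ =>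
    (⟨(a : G) * D.w, orderOf_eq_prime (by rw [pow_two]; exact hsq a a.2) (hne a a.2), ?_⟩ :
      {u : G // orderOf u = 2 ∧ u * g * u⁻¹ = g⁻¹})) ⟨fun a b e => ?_, ?_⟩)).symm
  · rw [show (a : G) * D.w * g * ((a : G) * D.w)⁻¹ = a * (D.w * g * D.w⁻¹) * (a : G)⁻¹ by group,
      hw g hg, comm_H₀ D hU a.2 (inv_mem hg), mul_inv_cancel_right]
  · exact Subtype.ext (mul_right_cancel (congrArg Subtype.val e))
  · rintro ⟨u, hu2, hu⟩
    obtain ⟨v, hv, x, hx, rfl⟩ := D.mem_H₀.1 hg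
    have hxx := sq_H₀ D hv hx
    have hs := mem_support D hT (mul_mem hx hx) (hxx ▸ h2)
    have hu' : u * (x * x) * u⁻¹ = (x * x)⁻¹ := by
      rw [← hxx, show u * (v * x * (v * x)) * u⁻¹ = (u * (v * x) * u⁻¹) * (u * (v * x) * u⁻¹) by group,
        hu, ← mul_inv_rev]
    have huN : u ∈ D.N := D.fusion hs (by
      rw [hu']
      exact mem_support D hT (inv_mem (mul_mem hx hx)) (inv_ne_one.2 (hxx ▸ h2)))
    have huu : u * u = 1 := by rw [← pow_two, ← hu2, pow_orderOf_eq_one]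
    obtain ⟨v', hv', x', hx', e | e⟩ := D.comm_V_of_sq huN huu
    · exfalso
      rw [e, comm_H₀ D hU (D.mem_H₀.2 ⟨v', hv', x', hx', rfl⟩) hg, mul_inv_cancel_right] at hu
      exact h2 (mul_eq_one_iff_eq_inv.2 hu)
    · exact ⟨⟨v' * x', D.mem_H₀.2 ⟨v', hv', x', hx', rfl⟩⟩, Subtype.ext e.symm⟩

end Torus

/-- The involutions commuting with `t`. -/
theorem card_invC {G : Type*} [Group G] [Finite G] {F : Type*} [Field F] [Fintype F] {t : G}
    (c : Cfg G F t) {k : ℕ}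
    (hk : ∀ x : ↥c.K, orderOf x = 2 → Nat.card {y : ↥c.K // orderOf y = 2} = k)
    (hne : ∃ x : ↥c.K, orderOf x = 2) :
    Nat.card {u : G // orderOf u = 2 ∧ u * t = t * u} = 2 * k + 1 := by
  obtain ⟨x, hx⟩ := hne
  have ord2 : ∀ {g : G}, g * g = 1 → g ≠ 1 → orderOf g = 2 := fun h h1 =>
    orderOf_eq_prime (by rw [pow_two]; exact h) h1
  have sq2 : ∀ {g : G}, orderOf g = 2 → g * g = 1 := fun h => by
    rw [← pow_two, ← h, pow_orderOf_eq_one]
  have notK : ∀ g : G, g ∈ c.K → t ≠ g := fun g hg e =>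
    Local.not_mem c ((congrArg (· ∈ c.K) e).mpr hg)
  have hsqt : ∀ g : G, Commute t g → t * g * (t * g) = g * g := fun g hg => by
    rw [hg.symm.mul_mul_mul_comm, c.sq, one_mul]
  let f : Option (Bool × {y : ↥c.K // orderOf y = 2}) → {u : G // orderOf u = 2 ∧ u * t = t * u} :=
    fun o => match o with
      | none => ⟨t, c.ord, rfl⟩
      | some (true, y) => ⟨t * (y.1 : G), ord2
          (by rw [hsqt _ (c.comm y.1.2)]; exact sq2 (by rw [Subgroup.orderOf_coe]; exact y.2))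
          (fun e => notK _ (inv_mem y.1.2) (eq_inv_of_mul_eq_one_left e)),
          by rw [mul_assoc, (c.comm y.1.2).eq.symm]⟩
      | some (false, y) => ⟨(y.1 : G), by rw [Subgroup.orderOf_coe]; exact y.2, (c.comm y.1.2).eq.symm⟩
  have hf : Function.Bijective f := by
    refine ⟨?_, ?_⟩
    · intro a b e
      have e' := congrArg Subtype.val e
      rcases a with _ | ⟨_ | _, y⟩ <;> rcases b with _ | ⟨_ | _, y'⟩ <;> simp only [f] at e'
      · rfl
      · exact absurd e' (notK _ y'.1.2)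
      · exfalso
        have h1 : ((y'.1 : ↥c.K) : G) = 1 := mul_left_cancel (e'.symm.trans (mul_one t).symm)
        have := y'.2
        rw [← Subgroup.orderOf_coe, h1, orderOf_one] at this
        omega
      · exact absurd e'.symm (notK _ y.1.2)
      · rw [Subtype.ext (Subtype.ext e') (a1 := y) (a2 := y')]
      · exact absurd (show t = (y.1 : G) * (y'.1 : G)⁻¹ by rw [e', mul_inv_cancel_right])
          (notK _ (mul_mem y.1.2 (inv_mem y'.1.2)))
      · exfalso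
        have h1 : ((y.1 : ↥c.K) : G) = 1 := mul_left_cancel (e'.trans (mul_one t).symm)
        have := y.2
        rw [← Subgroup.orderOf_coe, h1, orderOf_one] at this
        omega
      · exact absurd (show t = (y'.1 : G) * (y.1 : G)⁻¹ by rw [← e', mul_inv_cancel_right])
          (notK _ (mul_mem y'.1.2 (inv_mem y.1.2)))
      · rw [Subtype.ext (Subtype.ext (mul_left_cancel e')) (a1 := y) (a2 := y')]
    · rintro ⟨u, hu, hut⟩
      obtain ⟨e, he, hue⟩ := Local.decomp c hut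
      rcases hue with rfl | rfl
      · exact ⟨some (false, ⟨⟨_, he⟩, by rw [← Subgroup.orderOf_coe]; exact hu⟩), rfl⟩
      · by_cases he1 : e = 1
        · exact ⟨none, Subtype.ext (by simp [f, he1])⟩
        · refine ⟨some (true, ⟨⟨e, he⟩, ?_⟩), rfl⟩
          rw [← Subgroup.orderOf_coe]
          exact ord2 (by rw [← hsqt e (c.comm he)]; exact sq2 hu) he1
  rw [← Nat.card_congr (Equiv.ofBijective f hf), Finite.card_option, Nat.card_prod, hk x hx]
  simp only [Nat.card_eq_fintype_card, Fintype.card_bool]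

/-- The number of involutions of `K`. -/
theorem card_inv_K {H : Type*} [Group H] [Finite H] (hconj : ∀ x y : H, orderOf x = 2 → orderOf y = 2 → IsConj x y)
    {x : H} (hx : orderOf x = 2) :
    Nat.card {y : H // orderOf y = 2} * Nat.card (centralizer ({x} : Set H)) = Nat.card H := by
  classical
  haveI := Fintype.ofFinite H
  have h1 := card_conj_union {x} (centralizer ({x} : Set H))
    (Finset.univ.filter fun y : H => orderOf y = 2) (fun y => ?_) (fun g hg a ha => ?_)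
    (fun g a ha hga => ?_)
  · rw [Nat.card_eq_fintype_card, Fintype.card_subtype, h1, Finset.card_singleton, mul_one, mul_comm,
      card_mul_index]
  · simp only [Finset.mem_filter, Finset.mem_univ, true_and, Finset.mem_singleton]
    exact ⟨fun hy => isConj_iff.1 (hconj y x hy hx), fun ⟨g, hg⟩ => by rw [← orderOf_conj' g y, hg, hx]⟩
  · rw [Finset.mem_singleton] at ha ⊢
    rw [ha, mem_centralizer_singleton_iff.1 hg, mul_inv_cancel_right]
  · rw [Finset.mem_singleton] at ha hga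
    rw [ha] at hga
    exact mem_centralizer_singleton_iff.2 (mul_inv_eq_iff_eq_mul.1 hga)

/-- The setting in a group of Janko–Ree type of Ree's order; no element order meets both `q + 1 ± 3 r`. -/
theorem exists_setting_of_jr {G : Type u} [Group G] [Finite G] (jr : IsJR G) {S : Sylow 2 G}
    {t : G} {E : Subgroup G} (C : Ctx S t E E) {F : Type} [Field F] [Fintype F] {m : ℕ} (hm : 1 ≤ m)
    (hF : Fintype.card F = 3 ^ (2 * m + 1))
    (φ : ↥E ≃* Matrix.ProjectiveSpecialLinearGroup (Fin 2) F)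
    (hcard : Nat.card G =
      (3 ^ (2 * m + 1)) ^ 3 * ((3 ^ (2 * m + 1)) ^ 3 + 1) * (3 ^ (2 * m + 1) - 1)) :
    ∃ (d : ℕ) (s : G) (U T P N M Y W : Subgroup G) (r : ℕ),
      Setting G (Fintype.card F) d t s E U T P N M Y W ∧ Fintype.card F = 3 * r ^ 2 ∧
      ∀ x : G, x ≠ 1 → orderOf x ∣ Fintype.card F ^ 2 - Fintype.card F + 1 →
        orderOf x ∣ Fintype.card F + 1 + 3 * r ∨ orderOf x ∣ Fintype.card F + 1 - 3 * r := by
  classical
  haveI := jr.simple
  letI := Fintype.ofFinite G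
  letI := Fintype.ofFinite (Cfsg.IrrCharacter G)
  obtain ⟨d, s, U, T, h⟩ := AllAbelian80.exists_hyp jr C hm hF φ hcard
  obtain ⟨P, N, M, b, hUP, hfixU⟩ := h.exists_BN
  have hab : ∀ P : Sylow 2 G, ∀ a b : P, a * b = b * a := fun P a b => by
    haveI := (jr.elementary P).1
    exact mul_comm' a b
  let c : Cfg G F t := ⟨C.ord, E, C.cent.1, φ⟩
  have h3 : 3 ^ (2 * m + 1) = 3 * 9 ^ m := by rw [pow_succ', pow_mul]; norm_num
  have h98 : (9 ^ m) % 8 = 1 := by rw [Nat.pow_mod]; norm_num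
  have h9 : 9 ≤ 9 ^ m := Nat.le_self_pow (by omega) 9
  have h8 : Fintype.card F % 8 = 3 ∨ Fintype.card F % 8 = 5 := by omega
  have h11 : 11 ≤ Fintype.card F := by omega
  have hQ : sgnQ (Fintype.card F) = (Fintype.card F : ℤ) := if_pos (by omega)
  obtain ⟨tor⟩ := exists_torus c hab h8
  have hY₁ := tor.Y₁_eq_bot hab h8 h11
  let D := tor.data (cent_le tor hab h8 h11)
  have hT₀ : D.T₀ = D.U := rfl
  have hcomm : ∀ a ∈ D.U, ∀ b ∈ D.U, a * b = b * a := fun a ha b hb => (tor.Y_comm ha hb).eq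
  have hfix : ∀ y ∈ D.U, D.r * y = y * D.r → y = 1 := fun y hy hr => by
    have : y ∈ tor.Y₁ := mem_inf.2 ⟨hy, mem_centralizer_singleton_iff.2 hr.symm⟩
    rwa [hY₁, mem_bot] at this
  have hcY : 4 * Nat.card D.U = Fintype.card F + 1 := by
    show 4 * Nat.card tor.Y = _
    rw [tor.Y_card, hQ]
    omega
  have hW : Nat.card D.H₀ = Fintype.card F + 1 := by rw [D.card_H₀, hcY]
  have hC := cfg_cent c hab h8 (by omega)
  have hset : Setting G (Fintype.card F) d t s E U T P N M D.U D.H₀ := by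
    refine ⟨h, b, hUP, hfixU, hcY, D.U_le_H₀, fun a ha b hb => comm_H₀ D hcomm ha hb, hW,
      fun g hg => ?_, card_sq_H₀ D, fun y hy h1 g hg => cent_U D hT₀ hcomm hfix hy h1 hg, ?_,
      fun g hg h2 => (nInv_H₀ D hT₀ hcomm hg h2).trans hW, ?_⟩
    · obtain ⟨v, hv, x, hx, rfl⟩ := D.mem_H₀.1 hg
      rw [sq_H₀ D hv hx]
      exact mul_mem hx hx
    · rw [normalizer_H₀ D, D.card_N, hW]
    · have hp := hC.part
      obtain ⟨q, hq⟩ : ∃ q, q = Fintype.card F := ⟨_, rfl⟩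
      rw [hQ] at hp
      rw [← hq] at hp h11 ⊢
      have hs2 : orderOf (⟨tor.s, tor.s_mem⟩ : ↥c.K) = 2 := by
        rw [← Subgroup.orderOf_coe]; exact tor.s_ord
      obtain ⟨k, hk⟩ : ∃ k, k = Nat.card {y : ↥c.K // orderOf y = 2} := ⟨_, rfl⟩
      rw [card_invC c (fun x _ => hk.symm) ⟨_, hs2⟩]
      have h1 := card_inv_K hp.conjK hs2
      have h2 := hp.cent _ hs2
      have h3 := hp.card
      rw [← hk] at h1
      have h1' : (k : ℤ) * Nat.card (centralizer ({(⟨tor.s, tor.s_mem⟩ : ↥c.K)} : Set ↥c.K)) =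
          Nat.card ↥c.K := by exact_mod_cast h1
      have hq1 : (1 : ℤ) ≤ q := by exact_mod_cast (show 1 ≤ q by omega)
      rw [h2, Nat.cast_one, one_mul, abs_of_nonneg (by omega : (0 : ℤ) ≤ (q : ℤ) + 1)] at h1'
      rw [Nat.cast_one, one_mul,
        abs_of_nonneg (mul_nonneg (by omega : (0 : ℤ) ≤ q) (by nlinarith : (0 : ℤ) ≤ (q : ℤ) ^ 2 - 1))] at h3
      have hkq : 2 * (k : ℤ) = q * (q - 1) := by
        apply mul_right_cancel₀ (show ((q : ℤ) + 1) ≠ 0 by omega)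
        linear_combination 2 * h1' + h3
      apply Int.natCast_inj.1
      push_cast [Nat.cast_sub (show 1 ≤ q by omega)]
      linarith
  obtain ⟨X, hX⟩ := exists_princ' c hab h8 (by omega)
  have hr : Fintype.card F = 3 * (3 ^ m) ^ 2 := by
    rw [hF, pow_succ', ← pow_mul, mul_comm 2 m]
  exact ⟨d, s, U, T, P, N, M, D.U, D.H₀, 3 ^ m, hset, hr,
    hset.nomix hX (hX.ree hab h8 h11) (hX.Q_eq.trans hQ) hr⟩

/-- In a group of Janko–Ree type of Ree's order every element of order dividing `q² - q + 1` is inverted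
by an involution. -/
theorem exists_inverting_of_jr {G : Type u} [Group G] [Finite G] (jr : IsJR G) {S : Sylow 2 G}
    {t : G} {E : Subgroup G} (C : Ctx S t E E) {F : Type} [Field F] [Fintype F] {m : ℕ} (hm : 1 ≤ m)
    (hF : Fintype.card F = 3 ^ (2 * m + 1))
    (φ : ↥E ≃* Matrix.ProjectiveSpecialLinearGroup (Fin 2) F)
    (hcard : Nat.card G =
      (3 ^ (2 * m + 1)) ^ 3 * ((3 ^ (2 * m + 1)) ^ 3 + 1) * (3 ^ (2 * m + 1) - 1)) :
    ∀ x : G, x ≠ 1 → orderOf x ∣ Fintype.card F ^ 2 - Fintype.card F + 1 →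
      ∃ u : G, orderOf u = 2 ∧ u * x * u⁻¹ = x⁻¹ := by
  letI := Fintype.ofFinite G
  obtain ⟨d, s, U, T, P, N, M, Y, W, r, h, hr, hno⟩ := exists_setting_of_jr jr C hm hF φ hcard
  exact h.exists_inverting hr hno

end Cfsg.Agent.Lib.ReeTorus80
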