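import Cfsg.Agent.Lib.ReeTorus80.Setting

/-!
# Ree order: the elements of order divisible by three

Owner: helper80.
-/

set_option autoImplicit false
set_option linter.unusedSectionVars false
set_option linter.style.haveILetI false

namespace Cfsg.Agent.Lib.ReeTorus80

open Subgroup
open Cfsg.Agent.Lib.AllAbelian80.Ree

namespace Setting

variable {G : Type*} [Group G] [Finite G] {q d : ℕ} {t s : G} {E U T P N M Y W : Subgroup G}
  (h : Setting G q d t s E U T P N M Y W)
include h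

/-- `A = ⟨t⟩ × T`. -/
theorem A_le_N : zpowers t ⊔ T ≤ N :=
  sup_le ((zpowers_le).2 h.bn.tN) (h.bn.TM.trans h.bn.MN)

theorem P_le_N : P ≤ N := h.bn.PM.trans h.bn.MN

theorem t_ne : t ≠ 1 := fun e => by
  have := h.ree.ht
  rw [e, orderOf_one] at this
  omega

theorem A_comm {a b : G} (ha : a ∈ zpowers t ⊔ T) (hb : b ∈ zpowers t ⊔ T) : a * b = b * a := by
  have key : ∀ x ∈ (zpowers t ⊔ T : Subgroup G), ∀ y ∈ T, Commute x y := by
    intro x hx y hy
    rcases h.ree.mem_tT hx with hx' | hx'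
    · exact h.ree.commT x hx' y hy
    · rw [show x = t * (t * x) by rw [← mul_assoc, h.ree.tt, one_mul]]
      exact (show Commute t y from (h.ree.comm y (h.ree.TE hy)).symm).mul_left
        (show Commute (t * x) y from h.ree.commT _ hx' y hy)
  rcases h.ree.mem_tT hb with hb' | hb'
  · exact (key a ha b hb').eq
  · rw [show b = t * (t * b) by rw [← mul_assoc, h.ree.tt, one_mul]]
    refine ((Commute.symm ?_).mul_right (key a ha _ hb')).eq
    rcases h.ree.mem_tT ha with ha' | ha'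
    · exact (h.ree.comm a (h.ree.TE ha')).symm
    · rw [show a = t * (t * a) by rw [← mul_assoc, h.ree.tt, one_mul]]
      exact (Commute.refl t).mul_right (h.ree.comm _ (h.ree.TE ha')).symm

/-- The only involution of `A` is `t`; other elements have a non-trivial square in `T`. -/
theorem A_sq {a : G} (ha : a ∈ zpowers t ⊔ T) :
    a * a ∈ T ∧ (a * a = 1 → a = 1 ∨ a = t) := by
  rcases h.ree.mem_tT ha with ha' | ha'
  · exact ⟨mul_mem ha' ha', fun h2 => Or.inl (h.bn.T_odd a ha' h2)⟩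
  · have hc : a * t = t * a :=
      h.A_comm ha (mem_sup_left (mem_zpowers t))
    have e : (t * a) * (t * a) = a * a := by
      rw [(show Commute a t from hc).mul_mul_mul_comm, h.ree.tt, one_mul]
    refine ⟨e ▸ mul_mem ha' ha', fun h2 => Or.inr ?_⟩
    have := h.bn.T_odd _ ha' (e.trans h2)
    rw [eq_inv_of_mul_eq_one_right this, h.ree.t_inv]

/-- `C_P(a) = 1` for `a ∈ A` other than `1`, `t`. -/
theorem semiregA {a : G} (ha : a ∈ zpowers t ⊔ T) (h1 : a ≠ 1) (ht : a ≠ t) {x : G} (hx : x ∈ P)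
    (hc : a * x = x * a) : x = 1 :=
  h.bn.semireg _ (h.A_sq ha).1 (fun e => ((h.A_sq ha).2 e).elim h1 ht) x hx
    ((show Commute a x from hc).mul_left hc).eq

/-- `A ⊓ P = 1`. -/
theorem A_inf_P {a : G} (ha : a ∈ zpowers t ⊔ T) (hp : a ∈ P) : a = 1 := by
  have h1 := Subgroup.orderOf_dvd_natCard P hp
  have h2 := Subgroup.orderOf_dvd_natCard _ ha
  rw [h.bn.cardP] at h1
  rw [h.ree.card_tT] at h2
  refine orderOf_eq_one_iff.1 (Nat.eq_one_of_dvd_coprimes ?_ h2 h1)
  refine (Nat.Coprime.mul_left ?_ ?_).pow_right 3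
  · rw [Nat.coprime_two_left]
    exact Nat.odd_iff.2 (by have := h.q_eq; omega)
  · exact h.ree.coprime_d.coprime_dvd_right (Dvd.intro (2 * q ^ 2 * (q ^ 3 + 1)) (by ring))

/-- Every element of `N` is uniquely `p a`. -/
theorem N_decomp {g : G} (hg : g ∈ N) : ∃ p ∈ P, ∃ a ∈ zpowers t ⊔ T, g = p * a := by
  rcases h.bn.M_cases g hg with hM | hM
  · obtain ⟨p, hp, a, ha, rfl⟩ := h.bn.decomp g hM
    exact ⟨p, hp, a, mem_sup_right ha, rfl⟩
  · obtain ⟨p, hp, a, ha, he⟩ := h.bn.decomp _ hM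
    refine ⟨t * p * t⁻¹, h.bn.norm t h.bn.tN p hp, t * a, mul_mem (mem_sup_left (mem_zpowers t))
      (mem_sup_right ha), ?_⟩
    rw [show t * p * t⁻¹ * (t * a) = t * (p * a) by group, ← he, ← mul_assoc, h.ree.tt, one_mul]

theorem N_unique {p p' a a' : G} (hp : p ∈ P) (hp' : p' ∈ P) (ha : a ∈ zpowers t ⊔ T)
    (ha' : a' ∈ zpowers t ⊔ T) (he : p * a = p' * a') : p = p' ∧ a = a' := by
  have h1 : p'⁻¹ * p = a' * a⁻¹ := by
    rw [eq_mul_inv_iff_mul_eq, mul_assoc, he, inv_mul_cancel_left]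
  have h2 : a' * a⁻¹ = 1 := h.A_inf_P (mul_mem ha' (inv_mem ha)) (h1 ▸ mul_mem (inv_mem hp') hp)
  obtain rfl := (mul_inv_eq_one.1 h2).symm
  exact ⟨mul_right_cancel he, rfl⟩

/-- The inverted elements of `P` are the commutators with `t`. -/
theorem exists_comm_of_inv {p : G} (hp : p ∈ P) (hi : t * p * t⁻¹ = p⁻¹) :
    ∃ x ∈ P, x * t * x⁻¹ = p * t := by
  obtain ⟨k, hk⟩ : Odd (orderOf p) := by
    refine Odd.of_dvd_nat ?_ (h.bn.cardP ▸ Subgroup.orderOf_dvd_natCard P hp)
    exact (Nat.odd_iff.2 (by have := h.q_eq; omega)).pow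
  refine ⟨p ^ (k + 1), pow_mem hp _, ?_⟩
  have hx : t * p ^ (k + 1) * t⁻¹ = (p ^ (k + 1))⁻¹ := by rw [← conj_pow, hi, inv_pow]
  have e : p ^ (k + 1) * p ^ (k + 1) = p := by
    rw [← pow_add, show k + 1 + (k + 1) = (2 * k + 1) + 1 by ring, pow_succ, ← hk,
      pow_orderOf_eq_one, one_mul]
  calc p ^ (k + 1) * t * (p ^ (k + 1))⁻¹ = p ^ (k + 1) * t * (t * p ^ (k + 1) * t⁻¹) := by rw [hx]
    _ = p ^ (k + 1) * (t * t) * p ^ (k + 1) * t⁻¹ := by group
    _ = _ := by rw [h.ree.tt, mul_one, e, h.ree.t_inv]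

/-- An involution of `N` is `p t` with `p` inverted by `t`. -/
theorem invol_cases {g : G} (hg : g ∈ N) (h2 : orderOf g = 2) :
    ∃ p ∈ P, t * p * t⁻¹ = p⁻¹ ∧ g = p * t := by
  obtain ⟨p, hp, a, ha, rfl⟩ := h.N_decomp hg
  have hsq : p * a * (p * a) = 1 := by rw [← pow_two, ← h2, pow_orderOf_eq_one]
  have hanp : a * p * a⁻¹ ∈ P := h.bn.norm a (h.A_le_N ha) p hp
  obtain ⟨h1, ha2⟩ := h.N_unique (mul_mem hp hanp) (one_mem P) (mul_mem ha ha) (one_mem _)
    (show p * (a * p * a⁻¹) * (a * a) = 1 * 1 by rw [one_mul, ← hsq]; group)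
  rcases (h.A_sq ha).2 ha2 with rfl | rfl
  · exfalso
    rw [mul_one] at h2
    have hd := h2 ▸ Subgroup.orderOf_dvd_natCard P hp
    rw [h.bn.cardP] at hd
    have h' := Nat.prime_two.dvd_of_dvd_pow hd
    have := h.q_eq; omega
  · exact ⟨p, hp, (eq_inv_of_mul_eq_one_right h1), rfl⟩

variable [Fintype G]

open Classical in
/-- `q²` inverted elements in `P`. -/
theorem card_inv_P :
    (Finset.univ.filter fun p : G => p ∈ P ∧ t * p * t⁻¹ = p⁻¹).card = q ^ 2 := by
  haveI : Fintype P := Fintype.ofFinite _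
  have h1 : (Finset.univ.filter fun p : G => p ∈ P ∧ t * p * t⁻¹ = p⁻¹).card =
      (U.subgroupOf P).index := by
    rw [Subgroup.index, ← Fintype.card_subtype, ← Nat.card_eq_fintype_card]
    symm
    have hwd : ∀ x : P, (x : G) * t * (x : G)⁻¹ * t ∈ P ∧
        t * ((x : G) * t * (x : G)⁻¹ * t) * t⁻¹ = ((x : G) * t * (x : G)⁻¹ * t)⁻¹ := fun x => by
      refine ⟨?_, ?_⟩
      · rw [show (x : G) * t * (x : G)⁻¹ * t = x * (t * (x : G)⁻¹ * t) by group]
        refine mul_mem x.2 ?_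
        have := h.bn.norm t h.bn.tN _ (inv_mem x.2)
        rwa [h.ree.t_inv] at this
      · rw [mul_inv_rev, mul_inv_rev, mul_inv_rev, inv_inv, h.ree.t_inv]
        calc t * ((x : G) * t * (x : G)⁻¹ * t) * t = t * x * t * (x : G)⁻¹ * (t * t) := by group
          _ = _ := by rw [h.ree.tt, mul_one]; group
    refine Nat.card_congr (Equiv.ofBijective
      (fun c => (⟨_, hwd (Quotient.out c)⟩ :
        {p : G // p ∈ P ∧ t * p * t⁻¹ = p⁻¹})) ⟨?_, ?_⟩)
    · intro c c' hcc
      have e : (c.out : G) * t * (c.out : G)⁻¹ = (c'.out : G) * t * (c'.out : G)⁻¹ :=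
        mul_right_cancel (congrArg Subtype.val hcc)
      rw [← QuotientGroup.out_eq' c, ← QuotientGroup.out_eq' c', QuotientGroup.eq, mem_subgroupOf]
      refine h.fixU _ ((c.out)⁻¹ * c'.out).2 ?_
      simp only [Subgroup.coe_mul, Subgroup.coe_inv]
      calc (c.out : G)⁻¹ * c'.out * t = (c.out : G)⁻¹ * (c'.out * t * (c'.out : G)⁻¹) * c'.out := by
            group
        _ = _ := by rw [← e]; group
    · rintro ⟨p, hp, hi⟩
      obtain ⟨x, hx, hxt⟩ := h.exists_comm_of_inv hp hi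
      obtain ⟨v, hv⟩ := QuotientGroup.mk_out_eq_mul (U.subgroupOf P) (⟨x, hx⟩ : P)
      refine ⟨((⟨x, hx⟩ : P) : P ⧸ U.subgroupOf P), Subtype.ext ?_⟩
      show _ * t * _⁻¹ * t = p
      rw [hv, Subgroup.coe_mul]
      have hvt : ((v : P) : G) * t = t * ((v : P) : G) :=
        h.ree.comm _ (h.ree.UE (mem_subgroupOf.1 v.2))
      calc x * ((v : P) : G) * t * (x * ((v : P) : G))⁻¹ * t
          = x * (((v : P) : G) * t * ((v : P) : G)⁻¹) * x⁻¹ * t := by group
        _ = p * t * t := by rw [hvt, mul_inv_cancel_right, hxt]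
        _ = p := by rw [mul_assoc, h.ree.tt, mul_one]
  rw [h1]
  have h2 := (U.subgroupOf P).card_mul_index
  rw [Nat.card_congr (subgroupOfEquivOfLe h.UP).toEquiv, h.ree.cardU, h.bn.cardP] at h2
  exact Nat.eq_of_mul_eq_mul_left h.ree.q_pos (h2.trans (by ring))

/-- A power of `p a` prime to three: only conjugates of `a`. -/
theorem three_dvd_iff {p a : G} (hp : p ∈ P) (ha : a ∈ zpowers t ⊔ T) :
    ¬ 3 ∣ orderOf (p * a) ↔
      (a = 1 ∧ p = 1) ∨ (a = t ∧ t * p * t⁻¹ = p⁻¹) ∨ (a ≠ 1 ∧ a ≠ t) := by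
  have hA3 : ¬ 3 ∣ orderOf a := fun h3 => by
    have := h3.trans (Subgroup.orderOf_dvd_natCard _ ha)
    rw [h.ree.card_tT] at this
    exact (Nat.prime_three.not_dvd_mul (by norm_num) h.ree.three_not_dvd.1) this
  by_cases h1 : a = 1
  · subst h1
    have hne : ∀ {P : Prop}, P ∧ p = 1 ↔ P ∧ p = 1 := Iff.rfl
    simp only [mul_one, ne_eq, not_true_eq_false, false_and, or_false, true_and,
      Ne.symm h.t_ne]
    refine ⟨fun h3 => ?_, fun h' => by rw [h', orderOf_one]; norm_num⟩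
    obtain ⟨f, hf⟩ := h.ree.pow3
    obtain ⟨i, -, hi⟩ := (Nat.dvd_prime_pow Nat.prime_three).1
      (show orderOf p ∣ 3 ^ (f * 3) by
        rw [pow_mul, ← hf, ← h.bn.cardP]; exact Subgroup.orderOf_dvd_natCard P hp)
    rcases i with _ | i
    · exact orderOf_eq_one_iff.1 (by simpa using hi)
    · exact absurd (hi ▸ dvd_pow_self 3 (Nat.succ_ne_zero i)) h3
  by_cases h2 : a = t
  · subst h2
    simp only [h.t_ne, false_and, true_and, ne_eq, not_true_eq_false, and_false, false_or, or_false]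
    constructor
    · intro h3
      have h4 : (p * a) ^ 2 ∈ P := by
        rw [pow_two, show p * a * (p * a) = p * (a * p * a⁻¹) * (a * a) by group, h.ree.tt, mul_one]
        exact mul_mem hp (h.bn.norm a h.bn.tN p hp)
      obtain ⟨f, hf⟩ := h.ree.pow3
      have h5 : orderOf ((p * a) ^ 2) ∣ 3 ^ (f * 3) := by
        rw [pow_mul, ← hf, ← h.bn.cardP]; exact Subgroup.orderOf_dvd_natCard P h4
      have h6 : orderOf ((p * a) ^ 2) = 1 := Nat.eq_one_of_dvd_coprimes
        ((Nat.prime_three.coprime_iff_not_dvd.2 h3).pow_left _).symm (orderOf_pow_dvd 2) h5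
      have h7 := orderOf_eq_one_iff.1 h6
      rw [pow_two, show p * a * (p * a) = p * (a * p * a⁻¹) * (a * a) by group, h.ree.tt, mul_one] at h7
      exact eq_inv_of_mul_eq_one_right h7
    · intro hi h3
      have h7 : (p * a) ^ 2 = 1 := by
        rw [pow_two, show p * a * (p * a) = p * (a * p * a⁻¹) * (a * a) by group, h.ree.tt, mul_one,
          hi, mul_inv_cancel]
      have := h3.trans (orderOf_dvd_of_pow_eq_one h7)
      norm_num at this
  simp only [h1, h2, false_and, false_or, ne_eq, not_false_eq_true, and_self, iff_true]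
  haveI : Fintype P := Fintype.ofFinite _
  let φ : P → P := fun x => ⟨x * (a * (x : G)⁻¹ * a⁻¹),
    mul_mem x.2 (h.bn.norm a (h.A_le_N ha) _ (inv_mem x.2))⟩
  have hφ : Function.Injective φ := by
    intro x y he
    have e := congrArg Subtype.val he
    simp only [φ] at e
    have hc : a * ((y : G)⁻¹ * x) = (y : G)⁻¹ * x * a := by
      have e' : (x : G) * a * (x : G)⁻¹ = (y : G) * a * (y : G)⁻¹ := by
        apply mul_right_cancel (b := a⁻¹)
        simpa [mul_assoc] using e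
      calc a * ((y : G)⁻¹ * x) = (y : G)⁻¹ * ((y : G) * a * (y : G)⁻¹) * x := by group
        _ = _ := by rw [← e']; group
    exact Subtype.ext (inv_mul_eq_one.1
      (h.semiregA ha h1 h2 (mul_mem (inv_mem y.2) x.2) hc)).symm
  obtain ⟨x, hx⟩ := (Finite.injective_iff_surjective.1 hφ) ⟨p, hp⟩
  have e : p = (x : G) * (a * (x : G)⁻¹ * a⁻¹) := (congrArg Subtype.val hx).symm
  rw [show p * a = (x : G) * a * (x : G)⁻¹ by rw [e]; group, orderOf_conj']
  exact hA3

open Classical in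
/-- The elements of `N` of order divisible by three. -/
theorem card_S3 :
    (Finset.univ.filter fun g : G => g ∈ N ∧ 3 ∣ orderOf g).card + q ^ 2 + 1 = 2 * q ^ 3 := by
  haveI : Fintype P := Fintype.ofFinite _
  haveI : Fintype N := Fintype.ofFinite _
  set A : Subgroup G := zpowers t ⊔ T with hAdef
  haveI : Fintype A := Fintype.ofFinite _
  have h1 : (Finset.univ.filter fun g : G => g ∈ N ∧ 3 ∣ orderOf g).card +
      (Finset.univ.filter fun g : G => g ∈ N ∧ ¬ 3 ∣ orderOf g).card = q ^ 3 * (2 * d) := by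
    rw [← h.bn.cardN, Nat.card_eq_fintype_card (α := N), Fintype.card_subtype,
      ← Finset.card_union_of_disjoint]
    · congr 1; ext g; simp only [Finset.mem_union, Finset.mem_filter, Finset.mem_univ, true_and]
      tauto
    · rw [Finset.disjoint_filter]; tauto
  have h2 : (Finset.univ.filter fun g : G => g ∈ N ∧ ¬ 3 ∣ orderOf g).card =
      (((Finset.univ : Finset G).filter (· ∈ A)).sigma fun a : G =>
        (Finset.univ : Finset G).filter fun p : G => p ∈ P ∧ ¬ 3 ∣ orderOf (p * a)).card := by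
    symm
    refine Finset.card_bij (fun x _ => x.2 * x.1) ?_ ?_ ?_
    · rintro ⟨a, p⟩ hx
      simp only [Finset.mem_sigma, Finset.mem_filter, Finset.mem_univ, true_and] at hx ⊢
      exact ⟨mul_mem (h.P_le_N hx.2.1) (h.A_le_N hx.1), hx.2.2⟩
    · rintro ⟨a, p⟩ hx ⟨a', p'⟩ hx' he
      simp only [Finset.mem_sigma, Finset.mem_filter, Finset.mem_univ, true_and] at hx hx'
      obtain ⟨rfl, rfl⟩ := h.N_unique hx.2.1 hx'.2.1 hx.1 hx'.1 he
      rfl
    · intro g hg
      simp only [Finset.mem_filter, Finset.mem_univ, true_and] at hg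
      obtain ⟨p, hp, a, ha, rfl⟩ := h.N_decomp hg.1
      exact ⟨⟨a, p⟩, by simp only [Finset.mem_sigma, Finset.mem_filter, Finset.mem_univ, true_and];
                        exact ⟨ha, hp, hg.2⟩, rfl⟩
  have h3 : ∀ a ∈ (Finset.univ : Finset G).filter (· ∈ A),
      ((Finset.univ : Finset G).filter fun p : G => p ∈ P ∧ ¬ 3 ∣ orderOf (p * a)).card =
        if a = 1 then 1 else if a = t then q ^ 2 else q ^ 3 := by
    intro a ha
    simp only [Finset.mem_filter, Finset.mem_univ, true_and] at ha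
    split_ifs with e1 e2
    · rw [Finset.card_eq_one]
      refine ⟨1, Finset.ext fun p => ?_⟩
      simp only [Finset.mem_filter, Finset.mem_univ, true_and, Finset.mem_singleton]
      refine ⟨fun ⟨hp, hp3⟩ => ?_, fun hp => ⟨hp ▸ one_mem P, ?_⟩⟩
      · rcases (h.three_dvd_iff hp ha).1 hp3 with ⟨-, hh⟩ | ⟨hh, -⟩ | ⟨hh, -⟩
        exacts [hh, absurd (hh.symm.trans e1) h.t_ne, absurd e1 hh]
      · exact (h.three_dvd_iff (hp ▸ one_mem P) ha).2 (Or.inl ⟨e1, hp⟩)
    · rw [← h.card_inv_P]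
      congr 1; ext p
      simp only [Finset.mem_filter, Finset.mem_univ, true_and]
      refine and_congr_right fun hp => ?_
      rw [h.three_dvd_iff hp ha]
      simp [e2, h.t_ne]
    · rw [← h.bn.cardP, Nat.card_eq_fintype_card (α := P), Fintype.card_subtype]
      congr 1; ext p
      simp only [Finset.mem_filter, Finset.mem_univ, true_and]
      exact ⟨fun hh => hh.1, fun hp => ⟨hp, (h.three_dvd_iff hp ha).2 (Or.inr (Or.inr ⟨e1, e2⟩))⟩⟩
  rw [Finset.card_sigma, Finset.sum_congr rfl h3] at h2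
  have h4 : ((Finset.univ : Finset G).filter (· ∈ A)).card = 2 * d := by
    rw [← h.ree.card_tT, Nat.card_eq_fintype_card (α := A), Fintype.card_subtype]
  have hm1 : (1 : G) ∈ (Finset.univ : Finset G).filter (· ∈ A) := by simp
  have hmt : t ∈ ((Finset.univ : Finset G).filter (· ∈ A)).erase 1 := by
    simp [hAdef, h.t_ne, mem_sup_left (mem_zpowers t)]
  rw [← Finset.add_sum_erase _ _ hm1, ← Finset.add_sum_erase _ _ hmt, if_pos rfl, if_neg h.t_ne,
    if_pos rfl, Finset.sum_congr rfl fun a ha => by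
      rw [if_neg (Finset.ne_of_mem_erase (Finset.mem_of_mem_erase ha)),
        if_neg (Finset.ne_of_mem_erase ha)],
    Finset.sum_const, Finset.card_erase_of_mem hmt, Finset.card_erase_of_mem hm1, h4, smul_eq_mul] at h2
  rw [h2] at h1
  have hd := h.d_big
  obtain ⟨d', rfl⟩ : ∃ d', d = d' + 1 := ⟨d - 1, by omega⟩
  rw [show 2 * (d' + 1) - 1 - 1 = 2 * d' by omega] at h1
  linarith

/-- An element normalising `P`-conjugates: control of the elements of `N` of order divisible by three. -/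
theorem mem_N_of_conj {g x : G} (hx : x ∈ N) (h3 : 3 ∣ orderOf x) (hgx : g * x * g⁻¹ ∈ N) :
    g ∈ N := by
  obtain ⟨k, hk⟩ := exists_pow_prime h3
  have h31 : (x ^ k) ^ 3 ^ 1 = 1 := by rw [pow_one, ← hk, pow_orderOf_eq_one]
  have hu : x ^ k ∈ P := h.bn.unique _ (pow_mem hx k) 1 h31
  have hgu : g * x ^ k * g⁻¹ ∈ P := by
    refine h.bn.unique _ ?_ 1 ?_
    · rw [← conj_pow]; exact pow_mem hgx k
    · rw [conj_pow, h31, mul_one, mul_inv_cancel]
  by_contra hg
  have h1 := h.bn.ti g⁻¹ (fun hh => hg (inv_mem_iff.1 hh)) _ hu (by rwa [inv_inv])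
  rw [h1, orderOf_one] at hk
  omega

/-- An element of order divisible by three is conjugate into `N`. -/
theorem exists_conj_N {x : G} (h3 : 3 ∣ orderOf x) : ∃ g : G, g * x * g⁻¹ ∈ N := by
  obtain ⟨k, hk⟩ := exists_pow_prime h3
  obtain ⟨f, hf⟩ := h.ree.pow3
  obtain ⟨g, hg⟩ := exists_conj_hall (A := P) Nat.prime_three h.bn.cardP h.ree.card'
    (Nat.prime_three.not_dvd_mul (Nat.prime_three.not_dvd_mul (by norm_num) h.ree.three_not_dvd.1)
      h.ree.three_not_dvd.2.2.1) (x := x ^ k) (by rw [← hk, pow_orderOf_eq_one])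
  refine ⟨g, ?_⟩
  by_contra hN
  have hc : (g * x * g⁻¹)⁻¹ * (g * x ^ k * g⁻¹) * (g * x * g⁻¹) = g * x ^ k * g⁻¹ := by
    rw [← conj_pow, ((Commute.self_pow (g * x * g⁻¹) k).inv_left).eq, inv_mul_cancel_right]
  have h1 := h.bn.ti _ hN _ hg (by rw [hc]; exact hg)
  rw [conj_eq_one_iff] at h1
  rw [h1, orderOf_one] at hk
  omega

open Classical in
/-- The inverting pairs with second entry of order divisible by three in `N`. -/
theorem sum_nInv_S3 :
    ∑ g ∈ (Finset.univ.filter fun g : G => g ∈ N ∧ 3 ∣ orderOf g), nInv g = q ^ 2 * (q ^ 2 - 1) := by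
  set S := Finset.univ.filter fun g : G => g ∈ N ∧ 3 ∣ orderOf g with hS
  set IN := Finset.univ.filter fun u : G => u ∈ N ∧ orderOf u = 2 with hIN
  have h1 : ∀ g ∈ S, nInv g = (IN.filter fun u => u * g * u⁻¹ = g⁻¹).card := by
    intro g hg
    rw [nInv_eq]
    congr 1
    ext u
    simp only [hIN, hS, Finset.mem_filter, Finset.mem_univ, true_and] at hg ⊢
    exact ⟨fun hu => ⟨⟨h.mem_N_of_conj hg.1 hg.2 (hu.2 ▸ inv_mem hg.1), hu.1⟩, hu.2⟩,
      fun hu => ⟨hu.1.2, hu.2⟩⟩
  rw [Finset.sum_congr rfl h1]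
  simp only [Finset.card_filter]
  rw [Finset.sum_comm]
  have h2 : IN.card = q ^ 2 := by
    rw [← h.card_inv_P]
    refine (Finset.card_bij (fun p _ => p * t) ?_ (fun a _ b _ e => mul_right_cancel e) ?_).symm
    · intro p hp
      simp only [hIN, Finset.mem_filter, Finset.mem_univ, true_and] at hp ⊢
      obtain ⟨x, hx, hxt⟩ := h.exists_comm_of_inv hp.1 hp.2
      exact ⟨mul_mem (h.P_le_N hp.1) h.bn.tN, by rw [← hxt, orderOf_conj', h.ree.ht]⟩
    · intro u hu
      simp only [hIN, Finset.mem_filter, Finset.mem_univ, true_and] at hu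
      obtain ⟨p, hp, hi, rfl⟩ := h.invol_cases hu.1 hu.2
      exact ⟨p, by simp [hp, hi], rfl⟩
  have h3 : ∀ u ∈ IN, (∑ g ∈ S, if u * g * u⁻¹ = g⁻¹ then 1 else 0) = q ^ 2 - 1 := by
    intro u hu
    simp only [hIN, Finset.mem_filter, Finset.mem_univ, true_and] at hu
    obtain ⟨p, hp, hi, rfl⟩ := h.invol_cases hu.1 hu.2
    obtain ⟨x, hx, hxt⟩ := h.exists_comm_of_inv hp hi
    have hxN : x ∈ N := h.P_le_N hx
    rw [← Finset.card_filter, ← h.card_inv_P, ← Finset.card_erase_of_mem (a := 1) (by simp)]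
    refine (Finset.card_bij (fun p' _ => x * p'⁻¹ * x⁻¹) ?_
      (fun a _ b _ e => by simpa using e) ?_).symm
    · intro p' hp'
      simp only [Finset.mem_erase, Finset.mem_filter, Finset.mem_univ, true_and, hS] at hp' ⊢
      obtain ⟨hne, hp'P, hi'⟩ := hp'
      refine ⟨⟨h.P_le_N (mul_mem (mul_mem hx (inv_mem hp'P)) (inv_mem hx)), ?_⟩, ?_⟩
      · rw [orderOf_conj', orderOf_inv]
        by_contra h3
        rcases (h.three_dvd_iff hp'P (one_mem _)).1 (by rwa [mul_one]) with ⟨-, e⟩ | ⟨e, -⟩ | ⟨e, -⟩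
        exacts [hne e, h.t_ne e.symm, e rfl]
      · rw [← hxt, conj_inv_iff, inv_inv, show t * p'⁻¹ * t⁻¹ = (t * p' * t⁻¹)⁻¹ by group, hi',
          inv_inv]
    · intro g hg
      simp only [hS, Finset.mem_filter, Finset.mem_univ, true_and] at hg
      obtain ⟨⟨hgN, hg3⟩, hgi⟩ := hg
      set g' := x⁻¹ * g * x with hg'
      have hg'N : g' ∈ N := mul_mem (mul_mem (inv_mem hxN) hgN) hxN
      have hgx : g = x * g' * x⁻¹ := by rw [hg']; group
      have hti : t * g' * t⁻¹ = g'⁻¹ := by rwa [← hxt, hgx, conj_inv_iff] at hgi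
      have hord : orderOf g' = orderOf g := by rw [hgx, orderOf_conj']
      -- `t g'` is `1` or an involution of `N`
      have hsq : t * g' * (t * g') = 1 := by
        rw [show t * g' * (t * g') = t * g' * t * g' by group]
        nth_rw 2 [← h.ree.t_inv]
        rw [hti, inv_mul_cancel]
      have hne1 : t * g' ≠ 1 := fun e => by
        rw [eq_inv_of_mul_eq_one_right e, h.ree.t_inv, h.ree.ht] at hord
        omega
      obtain ⟨p', hp', hi', he⟩ := h.invol_cases (mul_mem h.bn.tN hg'N)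
        (orderOf_eq_prime (by rw [pow_two]; exact hsq) hne1)
      have hg'' : g' = p'⁻¹ := by
        rw [← hi']
        calc g' = t * (t * g') := by rw [← mul_assoc, h.ree.tt, one_mul]
          _ = _ := by rw [he, h.ree.t_inv]; group
      refine ⟨p', ?_, by rw [← hg'', ← hgx]⟩
      refine Finset.mem_erase.2 ⟨fun e => ?_, by simp [hp', hi']⟩
      rw [hg'', e, inv_one, orderOf_one] at hord
      omega
  rw [Finset.sum_congr rfl h3, Finset.sum_const, h2, smul_eq_mul]

end Setting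

end Cfsg.Agent.Lib.ReeTorus80
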