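import Cfsg.Agent.Lib.ReeTorus80.Main
import Cfsg.Agent.Lib.JankoThompson.FreeEight
import Cfsg.Agent.Lib.JankoThompson.Table
import Cfsg.Agent.Lib.JankoThompson.Order
import Cfsg.Agent.Lib.Characters.DefectZero

/-!
# Ree order: no element order meets both `q + 1 ± 3 r`

At an element of odd order every column of the table of the principal block is orthogonal to the
irreducible characters; the characters of degree divisible by the full `p`-part vanish.

Owner: helper80.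
-/

set_option autoImplicit false
set_option linter.unusedSectionVars false
set_option linter.style.haveILetI false

namespace Cfsg.Agent.Lib.ReeTorus80

open Subgroup Cfsg.Agent.Lib.Characters.Basic Cfsg.Agent.Lib.JankoThompson
open Cfsg.Agent.Lib.Walter.NoField (secCoeff)
open scoped ComplexConjugate

variable {G : Type*} [Group G] [Fintype G] [Fintype (Cfsg.IrrCharacter G)]
  {F : Type*} [Field F] [Fintype F] {t : G}

/-- A column of the table is orthogonal to the characters at an element of odd order. -/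
theorem col_orth {cf : Cfg G F t} [Fintype ↥cf.K] {φ : ↥cf.K → ℂ}
    (hs : Cfsg.Agent.Lib.Walter.NoField.OddSupport φ) {a : Cfsg.IrrCharacter G → ℤ}
    (ha : ∀ χ : Cfsg.IrrCharacter G, (a χ : ℂ) = secCoeff t cf.K (χ : G → ℂ) φ)
    {x : G} (hx : ¬ 2 ∣ orderOf x) : ∑ χ, (a χ : ℂ) * (χ : G → ℂ) x = 0 := by
  classical
  have key : ∑ χ, (a χ : ℂ) * conj ((χ : G → ℂ) x) = 0 := by
    simp only [ha, secCoeff, Cfsg.classInner, mul_assoc, Finset.sum_mul, ← Finset.mul_sum]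
    rw [Finset.sum_comm]
    refine mul_eq_zero_of_right _ (Finset.sum_eq_zero fun k _ => ?_)
    by_cases hk : 2 ∣ orderOf (k : G)
    · simp [hs k hk]
    have h := Cfsg.Agent.Lib.Characters.Complete.sum_irr_mul_conj (t * (k : G)) x
    rw [if_neg fun hc => hx ?_] at h
    · calc ∑ χ : Cfsg.IrrCharacter G, (χ : G → ℂ) (t * k) * (conj (φ k) * conj ((χ : G → ℂ) x))
          = conj (φ k) * ∑ χ : Cfsg.IrrCharacter G, (χ : G → ℂ) (t * k) * conj ((χ : G → ℂ) x) := by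
            rw [Finset.mul_sum]
            exact Finset.sum_congr rfl fun χ _ => by ring
        _ = 0 := by rw [h, mul_zero]
    · obtain ⟨g, hg⟩ := isConj_iff.1 hc
      rw [← hg, orderOf_conj']
      have hko : (k : G) ^ orderOf (k : G) = 1 := pow_orderOf_eq_one _
      obtain ⟨j, hj⟩ := Nat.odd_iff.2 (Nat.two_dvd_ne_zero.1 hk)
      have hp : (t * (k : G)) ^ orderOf (k : G) = t := by
        rw [(cf.comm k.2).mul_pow, hko, mul_one, hj, pow_succ, pow_mul, pow_two, cf.sq, one_pow,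
          one_mul]
      have := orderOf_pow_dvd (x := t * (k : G)) (orderOf (k : G))
      rwa [hp, cf.ord] at this
  have h2 := congrArg (starRingEnd ℂ) key
  simpa using h2

namespace Setting

variable {q d : ℕ} {s : G} {E U T P N M Y W : Subgroup G}
  (h : Setting G q d t s E U T P N M Y W)
include h

/-- A character of degree divisible by the `p`-part of `q² - q + 1` vanishes at `p`-singular elements. -/
theorem vanish {p : ℕ} (hp : p.Prime) (hpm : p ∣ q ^ 2 - q + 1) {x : G} (hx : p ∣ orderOf x)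
    (χ : Cfsg.IrrCharacter G) {D : ℕ} (hdeg : (χ : G → ℂ) 1 = (D : ℂ))
    (hD : ∀ n, p ^ n ∣ q ^ 2 - q + 1 → p ^ n ∣ D) : (χ : G → ℂ) x = 0 := by
  set c := q ^ 3 * (2 * d) * (q + 1)
  have hpc : ¬ p ∣ c := fun e => hp.one_lt.ne' (Nat.eq_one_of_dvd_coprimes h.cop.2 hpm e)
  have hm0 : q ^ 2 - q + 1 ≠ 0 := by omega
  set n := (q ^ 2 - q + 1).factorization p with hn
  obtain ⟨u, hu⟩ := Nat.ordProj_dvd (q ^ 2 - q + 1) p
  rw [← hn] at hu
  obtain ⟨e, he⟩ := hD n ⟨u, hu⟩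
  refine Cfsg.Agent.Lib.Characters.DefectZero.apply_eq_zero (p := p) (n := n) (r := c * u) (e := e)
    hp χ (by rw [h.card_eq, hu]; ring) ?_
    (by rw [hdeg, he]) hx
  intro hd
  rcases hp.dvd_mul.1 hd with h' | h'
  · exact hpc h'
  · have h2 : p ^ (n + 1) ∣ q ^ 2 - q + 1 := by
      rw [hu, pow_succ]; exact mul_dvd_mul_left _ h'
    exact Nat.pow_succ_factorization_not_dvd hm0 hp (hn ▸ h2)

/-- No element order meets both `q + 1 ± 3 r`. -/
theorem nomix {cf : Cfg G F t} {X : Tab (Cfsg.IrrCharacter G)} (hX : Princ cf X) (hR : X.Ree)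
    (hQ : X.Q = (q : ℤ)) {r : ℕ} (hr : q = 3 * r ^ 2) :
    ∀ x : G, x ≠ 1 → orderOf x ∣ q ^ 2 - q + 1 →
      orderOf x ∣ q + 1 + 3 * r ∨ orderOf x ∣ q + 1 - 3 * r := by
  classical
  intro x h1 hxm
  by_contra hne
  push Not at hne
  obtain ⟨hnp, hnm⟩ := hne
  letI := Fintype.ofFinite ↥cf.K
  obtain ⟨g, hg, -, hga, hgb, -⟩ := hX.proj
  have hodd : ¬ 2 ∣ orderOf x := fun e => by
    have := (h.cop.2.coprime_dvd_left (e.trans hxm)).coprime_dvd_right
      (show 2 ∣ q ^ 3 * (2 * d) * (q + 1) from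
        dvd_mul_of_dvd_left (dvd_mul_of_dvd_right (dvd_mul_right 2 d) _) _)
    norm_num at this
  obtain ⟨-, E, hA, hD, hb⟩ := hR
  rw [hQ] at hA hD hb
  have hle : q ≤ q ^ 2 := Nat.le_self_pow two_ne_zero q
  have hd2 := h.d_big
  have hqd := h.q_eq
  have hrq : 3 * r ≤ q + 1 := by nlinarith
  have hmZ : ((q ^ 2 - q + 1 : ℕ) : ℤ) = (q : ℤ) ^ 2 - q + 1 := by
    push_cast [Nat.cast_sub hle]; ring
  have hmmZ : ((q + 1 - 3 * r : ℕ) : ℤ) = (q : ℤ) + 1 - 3 * r := by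
    push_cast [Nat.cast_sub hrq]; ring
  have hrZ : (q : ℤ) = 3 * (r : ℤ) ^ 2 := by exact_mod_cast hr
  have hprod : (q + 1 + 3 * r) * (q + 1 - 3 * r) = q ^ 2 - q + 1 := by
    apply Int.natCast_inj.1
    rw [Nat.cast_mul, hmmZ, hmZ]
    push_cast
    linear_combination (3 : ℤ) * hrZ
  -- degrees
  have hdeg : ∀ i : Cfsg.IrrCharacter G, (i : G → ℂ) 1 = ((X.d i).natAbs : ℂ) := fun i => by
    rw [← hX.hd i, Nat.cast_natAbs, abs_of_pos (X.d_pos i)]
  have hdx : ∀ (i : Cfsg.IrrCharacter G) {a b c : ℤ}, X.IsRow i a b c → (X.d i).natAbs = (X.x i).natAbs := fun i a b c hrow => by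
    rw [← hrow.abs_x, Int.natAbs_abs]
  obtain ⟨p, hp, hpx⟩ := Nat.exists_prime_and_dvd (n := orderOf x) fun e => h1 (orderOf_eq_one_iff.1 e)
  have hvA : (E.A : G → ℂ) x = 0 := by
    refine h.vanish hp (hpx.trans hxm) hpx _ (hdeg _) fun n hn => ?_
    rw [hdx _ E.rA, hA, Int.natAbs_neg, ← hmZ, Int.natAbs_natCast]
    exact hn
  have hvD : (E.D₂ : G → ℂ) x = 0 := by
    refine h.vanish hp (hpx.trans hxm) hpx _ (hdeg _) fun n hn => ?_
    rw [hdx _ E.rD₂, hD, hA, Int.natAbs_mul, Int.natAbs_neg, ← hmZ, Int.natAbs_natCast]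
    exact dvd_mul_of_dvd_right hn _
  -- the two exceptional degrees
  have hs := E.deg
  have hB : (((q + 1 - 3 * r) ∣ 2 * (X.d E.B₁).natAbs ∧ (q + 1 + 3 * r) ∣ 2 * (X.d E.B₂).natAbs) ∨
      ((q + 1 + 3 * r) ∣ 2 * (X.d E.B₁).natAbs ∧ (q + 1 - 3 * r) ∣ 2 * (X.d E.B₂).natAbs)) := by
    have hsum : X.x E.B₁ + X.x E.B₂ = -((q : ℤ) * (q - 1)) := by
      have : X.x E.B₁ + X.x E.B₂ = 1 + X.x E.A := by linarith [hs.1, hs.2.1]
      rw [this, hA]; ring
    have hsq : (X.x E.B₁ - X.x E.B₂) ^ 2 = ((r : ℤ) * ((q : ℤ) - 1) * (q + 1)) ^ 2 := by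
      apply mul_left_cancel₀ (show (3 : ℤ) ≠ 0 by norm_num)
      linear_combination hb + ((q : ℤ) - 1) ^ 2 * (q + 1) ^ 2 * hrZ
    have key : ∀ {v : ℤ} {n : ℕ}, (n : ℤ) ∣ 2 * v → n ∣ 2 * v.natAbs := fun {v n} hv => by
      rw [Int.natCast_dvd, Int.natAbs_mul] at hv
      exact hv
    rw [hdx _ E.rB₁, hdx _ E.rB₂]
    rcases sq_eq_sq_iff_eq_or_eq_neg.1 hsq with e | e
    · refine Or.inl ⟨key ⟨(r : ℤ) * (q - 1), ?_⟩, key ⟨-((r : ℤ) * (q - 1)), ?_⟩⟩
      · rw [hmmZ]; linear_combination hsum + e - ((q : ℤ) - 1) * hrZ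
      · push_cast; linear_combination hsum - e - ((q : ℤ) - 1) * hrZ
    · refine Or.inr ⟨key ⟨-((r : ℤ) * (q - 1)), ?_⟩, key ⟨(r : ℤ) * (q - 1), ?_⟩⟩
      · push_cast; linear_combination hsum + e - ((q : ℤ) - 1) * hrZ
      · rw [hmmZ]; linear_combination hsum - e - ((q : ℤ) - 1) * hrZ
  have hvB : ∀ (i : Cfsg.IrrCharacter G) (u v : ℕ), u * v = q ^ 2 - q + 1 → u.Coprime v →
      ¬ orderOf x ∣ v → u ∣ 2 * (X.d i).natAbs → (i : G → ℂ) x = 0 := by
    intro i u v huv huvc hnv hu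
    obtain ⟨l, hl, hlx, hlu⟩ : ∃ l, l.Prime ∧ l ∣ orderOf x ∧ l ∣ u := by
      by_contra hh
      push Not at hh
      exact hnv ((Nat.coprime_of_dvd fun l hl a b => hh l hl a b).dvd_of_dvd_mul_left (huv ▸ hxm))
    refine h.vanish hl (hlu.trans (huv ▸ dvd_mul_right u v)) hlx i (hdeg i) fun n hn => ?_
    have hlv : Nat.Coprime (l ^ n) v := (huvc.coprime_dvd_left hlu).pow_left n
    have hl2 : Nat.Coprime (l ^ n) 2 := by
      refine ((Nat.coprime_primes hl Nat.prime_two).2 fun e => hodd ?_).pow_left n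
      exact e ▸ hlx
    exact hl2.dvd_of_dvd_mul_left ((hlv.dvd_of_dvd_mul_right (huv ▸ hn)).trans hu)
  have hcop : (q + 1 + 3 * r).Coprime (q + 1 - 3 * r) := by
    refine Nat.coprime_of_dvd fun l hl a b => ?_
    have hlm : l ∣ q ^ 2 - q + 1 := hprod ▸ a.mul_right _
    have h6 : l ∣ 6 * r := by
      rw [← Int.natCast_dvd_natCast] at a b ⊢
      have := dvd_sub a b
      rw [hmmZ] at this
      push_cast at this ⊢
      rwa [show ((q : ℤ) + 1 + 3 * r) - (q + 1 - 3 * r) = 6 * r by ring] at this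
    refine hl.one_lt.ne' (Nat.eq_one_of_dvd_coprimes h.cop.2 hlm ?_)
    have hlq : l ∣ 2 * q := by
      rcases hl.dvd_mul.1 h6 with h' | h'
      · exact h'.trans (by rw [hr]; exact ⟨r ^ 2, by ring⟩)
      · exact h'.trans (by rw [hr]; exact ⟨6 * r, by ring⟩)
    exact hlq.trans ⟨q ^ 2 * d * (q + 1), by ring⟩
  have hB12 : (E.B₁ : G → ℂ) x = 0 ∧ (E.B₂ : G → ℂ) x = 0 := by
    rcases hB with ⟨a, b⟩ | ⟨a, b⟩
    · exact ⟨hvB _ _ _ (by rw [mul_comm, hprod]) hcop.symm hnp a, hvB _ _ _ hprod hcop hnm b⟩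
    · exact ⟨hvB _ _ _ hprod hcop hnm a, hvB _ _ _ (by rw [mul_comm, hprod]) hcop.symm hnp b⟩
  -- the two columns
  have ca := col_orth (hg.supp 0) hga hodd
  have cb := col_orth (hg.supp 1) hgb hodd
  rw [E.sum (fun i => (X.a i : ℂ) * (i : G → ℂ) x) (fun i hi => by simp [(E.zero i hi).1])] at ca
  rw [E.sum (fun i => (X.b i : ℂ) * (i : G → ℂ) x) (fun i hi => by simp [(E.zero i hi).2.1])] at cb
  have ho : ((X.o : Cfsg.IrrCharacter G) : G → ℂ) x = 1 := by rw [hX.o_eq, oneChar_apply]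
  simp only [X.a_o, X.b_o, E.rA.ha, E.rA.hb, E.rB₁.ha, E.rB₁.hb, E.rB₂.ha, E.rB₂.hb, E.rC₁.ha,
    E.rC₁.hb, E.rC₂.ha, E.rC₂.hb, E.rD₁.ha, E.rD₁.hb, E.rD₂.ha, E.rD₂.hb, hvA, hvD, hB12.1, hB12.2,
    ho] at ca cb
  push_cast at ca cb
  exact one_ne_zero (α := ℂ) (by linear_combination ca - cb)

/-- Every element of order dividing `q² - q + 1` is inverted by an involution. -/
theorem exists_inverting_of_princ {cf : Cfg G F t} {X : Tab (Cfsg.IrrCharacter G)} (hX : Princ cf X)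
    (hR : X.Ree) (hQ : X.Q = (q : ℤ)) :
    ∀ x : G, x ≠ 1 → orderOf x ∣ q ^ 2 - q + 1 →
      ∃ u : G, orderOf u = 2 ∧ u * x * u⁻¹ = x⁻¹ := by
  obtain ⟨f, hf⟩ := h.ree.pow3
  obtain ⟨-, E, -, -, hb⟩ := id hR
  rw [hQ] at hb
  set b := X.x E.B₁ - X.x E.B₂
  have hq := h.q_eq
  have hd := h.d_big
  have hb' : 3 * b.natAbs ^ 2 = 3 ^ f * ((q - 1) * (q + 1)) ^ 2 := by
    rw [← hf]
    apply Int.natCast_inj.1
    push_cast [Nat.cast_sub (show 1 ≤ q by omega), sq_abs, Int.natCast_natAbs]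
    linear_combination hb
  obtain ⟨-, i, hi⟩ := odd_power_three Nat.prime_three (mul_ne_zero (by omega) (by omega)) hb'
  have hr : q = 3 * (3 ^ i) ^ 2 := by rw [hf, hi, pow_succ, ← pow_mul, mul_comm 2 i, mul_comm]
  exact h.exists_inverting hr (h.nomix hX hR hQ hr)

end Setting

end Cfsg.Agent.Lib.ReeTorus80
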