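import Mathlib.GroupTheory.Sylow
import Mathlib.GroupTheory.GroupAction.Quotient
import Mathlib.Algebra.BigOperators.Finprod

/-!
# Counting lemmas: unions of conjugates, inverting involutions

Owner: helper80.
-/

set_option autoImplicit false
set_option linter.unusedSectionVars false

namespace Cfsg.Agent.Lib.ReeTorus80

variable {G : Type*} [Group G]

/-- The number of involutions inverting `x`. -/
noncomputable def nInv (x : G) : ℕ := Nat.card {u : G // orderOf u = 2 ∧ u * x * u⁻¹ = x⁻¹}

theorem orderOf_conj' (g x : G) : orderOf (g * x * g⁻¹) = orderOf x :=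
  orderOf_injective (MulAut.conj g).toMonoidHom (MulEquiv.injective _) x

/-- Conjugation preserves the relation of inverting. -/
theorem conj_inv_iff (g u x : G) :
    g * u * g⁻¹ * (g * x * g⁻¹) * (g * u * g⁻¹)⁻¹ = (g * x * g⁻¹)⁻¹ ↔ u * x * u⁻¹ = x⁻¹ := by
  rw [show g * u * g⁻¹ * (g * x * g⁻¹) * (g * u * g⁻¹)⁻¹ = g * (u * x * u⁻¹) * g⁻¹ by group,
    show (g * x * g⁻¹)⁻¹ = g * x⁻¹ * g⁻¹ by group, mul_left_inj, mul_right_inj]

theorem nInv_conj (g x : G) : nInv (g * x * g⁻¹) = nInv x := by
  refine (Nat.card_congr (Equiv.subtypeEquiv (MulAut.conj g).toEquiv fun u => ?_)).symm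
  simp only [MulEquiv.toEquiv_eq_coe, EquivLike.coe_coe, MulAut.conj_apply, orderOf_conj',
    conj_inv_iff]

variable [Fintype G]

open Classical in
theorem nInv_eq (x : G) :
    nInv x = (Finset.univ.filter fun u => orderOf u = 2 ∧ u * x * u⁻¹ = x⁻¹).card := by
  rw [nInv, Nat.card_eq_fintype_card, Fintype.card_subtype]

/-- A sum of a class function over a union of conjugates of a set which is controlled by `H`. -/
theorem sum_conj_union (S : Finset G) (H : Subgroup G) (Q : Finset G)
    (hQ : ∀ x, x ∈ Q ↔ ∃ g : G, g * x * g⁻¹ ∈ S)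
    (hst : ∀ h ∈ H, ∀ x ∈ S, h * x * h⁻¹ ∈ S)
    (hTI : ∀ g : G, ∀ x ∈ S, g * x * g⁻¹ ∈ S → g ∈ H)
    (f : G → ℕ) (hf : ∀ g x : G, f (g * x * g⁻¹) = f x) :
    ∑ x ∈ Q, f x = H.index * ∑ x ∈ S, f x := by
  classical
  have : Fintype (G ⧸ H) := Fintype.ofFinite _
  rw [Finset.mul_sum, Subgroup.index, Nat.card_eq_fintype_card]
  have h1 : ∀ x ∈ S, Fintype.card (G ⧸ H) * f x =
      ∑ c : G ⧸ H, f (c.out * x * c.out⁻¹) := fun x _ => by
    simp only [hf, Finset.sum_const, Finset.card_univ, smul_eq_mul]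
  rw [Finset.sum_congr rfl h1, ← Finset.sum_product']
  symm
  refine Finset.sum_bij' (fun p _ => p.2.out * p.1 * p.2.out⁻¹)
    (fun x hx =>
      (((QuotientGroup.mk ((hQ x).1 hx).choose⁻¹ : G ⧸ H)).out⁻¹ * x *
        ((QuotientGroup.mk ((hQ x).1 hx).choose⁻¹ : G ⧸ H)).out,
      (QuotientGroup.mk ((hQ x).1 hx).choose⁻¹ : G ⧸ H))) ?_ ?_ ?_ ?_ ?_
  · intro p hp
    refine (hQ _).2 ⟨p.2.out⁻¹, ?_⟩
    simpa [mul_assoc] using (Finset.mem_product.1 hp).1
  · intro x hx
    set g := ((hQ x).1 hx).choose with hg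
    obtain ⟨k, hk⟩ := QuotientGroup.mk_out_eq_mul H g⁻¹
    refine Finset.mem_product.2 ⟨?_, Finset.mem_univ _⟩
    simp only [hk]
    have := hst (k : G)⁻¹ (inv_mem k.2) _ ((hQ x).1 hx).choose_spec
    simpa [mul_assoc, hg] using this
  · intro p hp
    have hx : p.2.out * p.1 * p.2.out⁻¹ ∈ Q := (hQ _).2 ⟨p.2.out⁻¹, by
      simpa [mul_assoc] using (Finset.mem_product.1 hp).1⟩
    set g := ((hQ _).1 hx).choose with hg
    have hgp : g * (p.2.out * p.1 * p.2.out⁻¹) * g⁻¹ ∈ S := ((hQ _).1 hx).choose_spec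
    have hH : g * p.2.out ∈ H := hTI _ p.1 (Finset.mem_product.1 hp).1 (by
      simpa [mul_assoc] using hgp)
    have e : (QuotientGroup.mk g⁻¹ : G ⧸ H) = p.2 := by
      conv_rhs => rw [← QuotientGroup.out_eq' p.2]
      rw [QuotientGroup.eq, inv_inv]
      exact hH
    simp only [e]
    exact Prod.ext (by simp [mul_assoc]) rfl
  · intro x hx
    simp [mul_assoc]
  · intro p _
    rfl

/-- The size of a union of conjugates. -/
theorem card_conj_union (S : Finset G) (H : Subgroup G) (Q : Finset G)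
    (hQ : ∀ x, x ∈ Q ↔ ∃ g : G, g * x * g⁻¹ ∈ S)
    (hst : ∀ h ∈ H, ∀ x ∈ S, h * x * h⁻¹ ∈ S)
    (hTI : ∀ g : G, ∀ x ∈ S, g * x * g⁻¹ ∈ S → g ∈ H) : Q.card = H.index * S.card := by
  simpa using sum_conj_union S H Q hQ hst hTI (fun _ => 1) fun _ _ => rfl

open Classical in
/-- An involution inverts one element more than there are involutions. -/
theorem card_inverted (u : G) (hu : orderOf u = 2) :
    (Finset.univ.filter fun x : G => u * x * u⁻¹ = x⁻¹).card =
      (Finset.univ.filter fun v : G => orderOf v = 2).card + 1 := by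
  have huu : u * u = 1 := by rw [← pow_two, ← hu, pow_orderOf_eq_one]
  have h1 : (Finset.univ.filter fun x : G => u * x * u⁻¹ = x⁻¹).card =
      (Finset.univ.filter fun v : G => v * v = 1).card := by
    refine Finset.card_bij' (fun x _ => u * x) (fun v _ => u * v) ?_ ?_ ?_ ?_
    · intro x hx
      simp only [Finset.mem_filter, Finset.mem_univ, true_and] at hx ⊢
      rw [inv_eq_of_mul_eq_one_right huu] at hx
      calc u * x * (u * x) = u * x * u * x := by group
        _ = 1 := by rw [hx, inv_mul_cancel]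
    · intro v hv
      simp only [Finset.mem_filter, Finset.mem_univ, true_and] at hv ⊢
      rw [mul_inv_rev, inv_eq_of_mul_eq_one_right hv, ← mul_assoc, huu, one_mul]
    · intro x _; rw [← mul_assoc, huu, one_mul]
    · intro x _; rw [← mul_assoc, huu, one_mul]
  rw [h1, show (Finset.univ.filter fun v : G => v * v = 1) =
    insert 1 (Finset.univ.filter fun v : G => orderOf v = 2) from ?_,
    Finset.card_insert_of_notMem (by simp)]
  ext v
  simp only [Finset.mem_filter, Finset.mem_univ, true_and, Finset.mem_insert]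
  constructor
  · intro hv
    by_cases h1 : v = 1
    · exact Or.inl h1
    · exact Or.inr (orderOf_eq_prime (by rw [pow_two]; exact hv) h1)
  · rintro (rfl | hv)
    · exact mul_one 1
    · rw [← pow_two, ← hv, pow_orderOf_eq_one]

open Classical in
/-- All inverting pairs. -/
theorem sum_nInv {I : ℕ} (hI : (Finset.univ.filter fun v : G => orderOf v = 2).card = I) :
    ∑ x : G, nInv x = I * (I + 1) := by
  simp only [nInv_eq, Finset.card_filter]
  rw [Finset.sum_comm]
  have h1 : ∀ u : G, (∑ x : G, if orderOf u = 2 ∧ u * x * u⁻¹ = x⁻¹ then 1 else 0) =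
      if orderOf u = 2 then I + 1 else 0 := by
    intro u
    by_cases hu : orderOf u = 2
    · simp only [hu, true_and, if_true, ← hI]
      rw [← Finset.card_filter, card_inverted u hu]
    · simp [hu]
  rw [Finset.sum_congr rfl fun u _ => h1 u, ← Finset.sum_filter, Finset.sum_const, hI, smul_eq_mul]

open Classical in
/-- A conjugation-invariant set meets `m` times its size in multiples of the group order, if all
centraliser orders divide `m`. -/
theorem card_dvd_of_centralizer (Q : Finset G) (hQ : ∀ g : G, ∀ x ∈ Q, g * x * g⁻¹ ∈ Q) {m : ℕ}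
    (hm : ∀ x ∈ Q, Nat.card (Subgroup.centralizer ({x} : Set G)) ∣ m) :
    Nat.card G ∣ m * Q.card := by
  rw [mul_comm, ← smul_eq_mul, ← Finset.sum_const,
    ← Finset.sum_fiberwise_of_maps_to (t := Q.image ConjClasses.mk) (g := ConjClasses.mk)
      fun x hx => Finset.mem_image_of_mem _ hx]
  refine Finset.dvd_sum fun c _ => ?_
  rcases Finset.eq_empty_or_nonempty (Q.filter fun x => ConjClasses.mk x = c) with he | ⟨x, hx⟩
  · simp [he]
  obtain ⟨hxQ, rfl⟩ := Finset.mem_filter.1 hx
  obtain ⟨k, hk⟩ := hm x hxQ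
  rw [Finset.sum_const, smul_eq_mul]
  have hcl : (Q.filter fun y => ConjClasses.mk y = ConjClasses.mk x) =
      (Finset.univ.filter fun y => IsConj x y) := by
    ext y
    simp only [Finset.mem_filter, Finset.mem_univ, true_and, ConjClasses.mk_eq_mk_iff_isConj]
    constructor
    · exact fun h => h.2.symm
    · intro h
      obtain ⟨g, hg⟩ := isConj_iff.1 h
      exact ⟨hg ▸ hQ g x hxQ, h.symm⟩
  have hcard : (Finset.univ.filter fun y => IsConj x y).card *
      Nat.card (Subgroup.centralizer ({x} : Set G)) = Nat.card G := by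
    have h := MulAction.card_orbit_mul_card_stabilizer_eq_card_group (ConjAct G) x
    rw [ConjAct.card, ← Nat.card_eq_fintype_card, ← Nat.card_eq_fintype_card,
      ← Nat.card_eq_fintype_card] at h
    rw [← h]
    congr 1
    · rw [← Fintype.card_subtype, ← Nat.card_eq_fintype_card]
      exact Nat.card_congr (Equiv.subtypeEquivRight fun y => by
        rw [ConjAct.mem_orbit_conjAct, isConj_comm])
    · rw [ConjAct.stabilizer_eq_centralizer]
      rfl
  rw [hcl, hk, ← mul_assoc, hcard]
  exact dvd_mul_right _ _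

end Cfsg.Agent.Lib.ReeTorus80
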