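import Cfsg.Agent.Lib.ReeTorus80.Tori

/-!
# Ree order: the remaining elements are inverted by involutions

If no element order is divisible by primes of both `q + 1 ± 3 r` (`q = 3 r²`), the count of all
inverting pairs forces every element of order dividing `q² - q + 1` to be inverted by an involution.

Owner: helper80.
-/

set_option autoImplicit false
set_option linter.unusedSectionVars false
set_option linter.style.haveILetI false

namespace Cfsg.Agent.Lib.ReeTorus80

open Subgroup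
open Cfsg.Agent.Lib.AllAbelian80.Ree

variable {G : Type*} [Group G]

/-- At most `|C(x)|` involutions invert `x`. -/
theorem nInv_le [Finite G] (x : G) : nInv x ≤ Nat.card (centralizer ({x} : Set G)) := by
  by_cases hne : Nonempty {u : G // orderOf u = 2 ∧ u * x * u⁻¹ = x⁻¹}
  · obtain ⟨u0⟩ := hne
    refine Nat.card_le_card_of_injective
      (fun u => ⟨(u0 : G)⁻¹ * (u : G), mem_centralizer_singleton_iff.2 ?_⟩)
      (fun a b e => Subtype.ext (mul_left_cancel (congrArg Subtype.val e)))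
    have h0 := u0.2.2
    have h1 := u.2.2
    have e : (u : G) * x * (u : G)⁻¹ = (u0 : G) * x * (u0 : G)⁻¹ := h1.trans h0.symm
    calc (u0 : G)⁻¹ * (u : G) * x = (u0 : G)⁻¹ * ((u : G) * x * (u : G)⁻¹) * (u : G) := by group
      _ = _ := by rw [e]; group
  · rw [not_nonempty_iff] at hne
    rw [nInv, Nat.card_of_isEmpty]
    exact Nat.zero_le _

/-- The arithmetic of the class sizes. -/
theorem count_size {q e n m c3 c4 c5 cR : ℕ} (hq : q = 2 * e + 3) (hm : m + q = q ^ 2 + 1)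
    (hn : n = q ^ 3 * (2 * (e + 1)) * (q + 1) * m)
    (h3 : c3 + (q + 1) * m * (q ^ 2 + 1) = (q + 1) * m * (2 * q ^ 3))
    (h4 : 4 * (e + 1) * c4 = n * (2 * e)) (h5 : 6 * (q + 1) * c5 = n * (2 * e))
    (hs : n = 1 + q ^ 2 * m + c3 + c4 + c5 + cR) :
    3 * (cR : ℤ) * m = n * ((q : ℤ) * (q - 2)) := by
  zify at hq hm hn h3 h4 h5 hs
  have hm' : (m : ℤ) = (q : ℤ) ^ 2 - q + 1 := by linarith
  have h0 : (12 : ℤ) * (e + 1) * (q + 1) ≠ 0 := by positivity
  apply mul_left_cancel₀ h0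
  rw [hn] at h4 h5 hs ⊢
  rw [hm'] at h3 h4 h5 hs ⊢
  rw [hq] at h3 h4 h5 hs ⊢
  linear_combination -36 * ((e : ℤ) + 1) * (2 * e + 3 + 1) * ((2 * (e : ℤ) + 3) ^ 2 - (2 * e + 3) + 1) * hs
    - 36 * ((e : ℤ) + 1) * (2 * e + 3 + 1) * ((2 * (e : ℤ) + 3) ^ 2 - (2 * e + 3) + 1) * h3
    - 9 * (2 * (e : ℤ) + 3 + 1) * ((2 * (e : ℤ) + 3) ^ 2 - (2 * e + 3) + 1) * h4
    - 6 * ((e : ℤ) + 1) * ((2 * (e : ℤ) + 3) ^ 2 - (2 * e + 3) + 1) * h5

/-- The arithmetic of the inverting pairs. -/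
theorem count_sum {q e n m s4 s5 X : ℕ} (hq : q = 2 * e + 3) (hm : m + q = q ^ 2 + 1)
    (hn : n = q ^ 3 * (2 * (e + 1)) * (q + 1) * m)
    (h4 : 4 * (e + 1) * s4 = n * (2 * e * (2 * (e + 1))))
    (h5 : 6 * (q + 1) * s5 = n * (2 * e * (q + 1)))
    (hs : q ^ 2 * m * (q ^ 2 * m + 1) = q ^ 2 * m + q ^ 2 * m * (q * (q - 1) + 1) +
      (q + 1) * m * (q ^ 2 * (q ^ 2 - 1)) + s4 + s5 + X) :
    3 * (X : ℤ) = n * q := by
  have e4 : s4 = n * e := Nat.eq_of_mul_eq_mul_left (show 0 < 4 * (e + 1) by omega)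
    (h4.trans (by ring))
  have e5 : 3 * s5 = n * e := Nat.eq_of_mul_eq_mul_left (show 0 < 2 * (q + 1) by omega)
    ((show 2 * (q + 1) * (3 * s5) = 6 * (q + 1) * s5 by ring).trans (h5.trans (by ring)))
  obtain ⟨k, hk⟩ : ∃ k, q ^ 2 = k + 1 := ⟨q ^ 2 - 1, by
    have := Nat.le_self_pow two_ne_zero q; omega⟩
  rw [show q ^ 2 - 1 = k by omega, show q - 1 = 2 * e + 2 by omega] at hs
  zify at hq hm hn e4 e5 hs hk
  have hm' : (m : ℤ) = (q : ℤ) ^ 2 - q + 1 := by linarith
  have hk' : (k : ℤ) = (q : ℤ) ^ 2 - 1 := by linarith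
  rw [hn] at e4 e5 ⊢
  rw [hm'] at e4 e5 hs ⊢
  rw [hk'] at hs
  rw [hq] at e4 e5 hs ⊢
  linear_combination -3 * hs - 3 * e4 - e5

/-- The arithmetic of the two kinds of elements. -/
theorem solve_classes {q a b mp mm n m cR cp cm : ℤ} {r : ℤ} (hn : n ≠ 0) (hr : q = 3 * r ^ 2)
    (hmp : mp = q + 1 + 3 * r) (hmm : mm = q + 1 - 3 * r) (hm : m = q ^ 2 - q + 1)
    (hmp0 : 0 < mp) (hmm0 : 0 < mm) (ha0 : 0 ≤ a) (hb0 : 0 ≤ b) (hc : IsCoprime mp mm)
    (hR : 3 * cR * m = n * (q * (q - 2))) (hcR : cp + cm = cR)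
    (ha : mp * cp = n * a) (hb : mm * cm = n * b) : 3 * (a + b) = q := by
  have hprod : mp * mm = m := by rw [hmp, hmm, hm]; linear_combination (3 : ℤ) * hr
  have e1 : 3 * (a * mm + b * mp) = q * (q - 2) := by
    apply mul_left_cancel₀ hn
    linear_combination hR + 3 * m * hcR - 3 * mm * ha - 3 * mp * hb + 3 * (cp + cm) * hprod
  have e2 : (6 * a + 1) * mm + (6 * b + 1) * mp = 2 * m := by
    rw [hmp, hmm, hm] at *
    linear_combination 2 * e1
  obtain ⟨u, hu⟩ : mp ∣ 6 * a + 1 := hc.dvd_of_dvd_mul_right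
    ⟨2 * mm - (6 * b + 1), by linear_combination e2 - 2 * hprod⟩
  obtain ⟨v, hv⟩ : mm ∣ 6 * b + 1 := hc.symm.dvd_of_dvd_mul_right
    ⟨2 * mp - (6 * a + 1), by linear_combination e2 - 2 * hprod⟩
  have huv : u + v = 2 := by
    apply mul_left_cancel₀ (mul_ne_zero hmp0.ne' hmm0.ne')
    linear_combination e2 - 2 * hprod - mm * hu - mp * hv
  have hu1 : 1 ≤ u := by
    by_contra hh
    push Not at hh
    nlinarith [mul_nonpos_of_nonneg_of_nonpos hmp0.le (show u ≤ 0 by omega)]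
  have hv1 : 1 ≤ v := by
    by_contra hh
    push Not at hh
    nlinarith [mul_nonpos_of_nonneg_of_nonpos hmm0.le (show v ≤ 0 by omega)]
  obtain rfl : u = 1 := by omega
  obtain rfl : v = 1 := by omega
  linarith

namespace Setting

variable [Finite G] {q d : ℕ} {t s : G} {E U T P N M Y W : Subgroup G}
  (h : Setting G q d t s E U T P N M Y W)
include h

theorem card_centralizer_t :
    Nat.card (centralizer ({t} : Set G)) = q * (2 * d) * (q + 1) := by
  let e : Bool × E ≃ centralizer ({t} : Set G) := Equiv.ofBijective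
    (fun p => if p.1 then ⟨t * p.2, mem_centralizer_singleton_iff.2 (by
        rw [mul_assoc, h.ree.comm _ p.2.2])⟩
      else ⟨p.2, mem_centralizer_singleton_iff.2 (h.ree.comm _ p.2.2)⟩) ⟨by
      rintro ⟨b, x, hx⟩ ⟨b', y, hy⟩ hh
      cases b <;> cases b' <;> simp only [Bool.false_eq_true, if_false, if_true, Subtype.mk.injEq] at hh
      · subst hh; rfl
      · exact absurd (show t = x * y⁻¹ by rw [hh, mul_inv_cancel_right])
          fun e => h.ree.tE (e ▸ mul_mem hx (inv_mem hy))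
      · exact absurd (show t = y * x⁻¹ by rw [← hh, mul_inv_cancel_right])
          fun e => h.ree.tE (e ▸ mul_mem hy (inv_mem hx))
      · obtain rfl := mul_left_cancel hh; rfl, by
      rintro ⟨g, hg⟩
      rcases h.ree.cent g (mem_centralizer_singleton_iff.1 hg) with hg' | hg'
      · exact ⟨(false, ⟨g, hg'⟩), rfl⟩
      · refine ⟨(true, ⟨t * g, hg'⟩), Subtype.ext ?_⟩
        show t * (t * g) = g
        rw [← mul_assoc, h.ree.tt, one_mul]⟩
  rw [← Nat.card_congr e, Nat.card_prod, h.ree.cardE']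
  simp only [Nat.card_eq_fintype_card, Fintype.card_bool]
  ring

/-- No element of order four. -/
theorem not_four_dvd (x : G) : ¬ 4 ∣ orderOf x := fun h4 => by
  obtain ⟨k, hk⟩ := exists_pow_prime h4
  set y := x ^ k
  have hy : orderOf (y * y) = 2 := by
    rw [← pow_two, orderOf_pow' y two_ne_zero, hk]; norm_num
  obtain ⟨g, hg⟩ := isConj_iff.1 (h.ree.conj _ hy).symm
  have hz : (g * y * g⁻¹) * (g * y * g⁻¹) = t := by rw [← hg]; group
  have hc : g * y * g⁻¹ * t = t * (g * y * g⁻¹) := by rw [← hz]; group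
  refine h.ree.tE (hz ▸ ?_)
  rcases h.ree.cent _ hc with he | he
  · exact mul_mem he he
  · have e : t * (g * y * g⁻¹) * (t * (g * y * g⁻¹)) = g * y * g⁻¹ * (g * y * g⁻¹) := by
      rw [(show Commute t (g * y * g⁻¹) from hc.symm).symm.mul_mul_mul_comm, h.ree.tt, one_mul]
    exact e ▸ mul_mem he he

/-- An element commuting with an involution has order dividing `|C(t)|`. -/
theorem ord_dvd_cent {x u : G} (hu : orderOf u = 2) (hc : x * u = u * x) :
    orderOf x ∣ q * (2 * d) * (q + 1) := by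
  obtain ⟨g, hg⟩ := isConj_iff.1 (h.ree.conj u hu).symm
  rw [← h.card_centralizer_t, ← orderOf_conj' g x]
  refine Subgroup.orderOf_dvd_natCard _ (mem_centralizer_singleton_iff.2 ?_)
  rw [← hg]
  exact ((show Commute x u from hc).map (MulAut.conj g).toMonoidHom).eq

/-- An element prime to `q³ (q - 1) (q + 1)` of order dividing the group order has order dividing
`q² - q + 1`. -/
theorem dvd_of_coprime {n : ℕ} (hn : n ∣ Nat.card G)
    (hc : n.Coprime (q ^ 3 * (2 * d) * (q + 1))) : n ∣ q ^ 2 - q + 1 := by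
  rw [h.card_eq] at hn
  exact hc.dvd_of_dvd_mul_left hn

/-- The elements outside the other sets. -/
theorem reg_of {x : G} (h1 : x ≠ 1) (h2 : orderOf x ≠ 2) (h3 : ¬ 3 ∣ orderOf x)
    (hd : (orderOf x).Coprime d) (hY : (orderOf x).Coprime (Nat.card Y)) :
    orderOf x ∣ q ^ 2 - q + 1 := by
  have hodd : ¬ 2 ∣ orderOf x := by
    intro h22
    obtain ⟨k, hk⟩ := exists_pow_prime h22
    have hd' := h.ord_dvd_cent hk (Commute.self_pow x k).eq
    obtain ⟨f, hf⟩ := h.ree.pow3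
    have hq3 : (orderOf x).Coprime q := by
      rw [hf]; exact (Nat.prime_three.coprime_iff_not_dvd.2 h3).symm.pow_right f
    rw [← h.cardY, show q * (2 * d) * (4 * Nat.card Y) = q * d * Nat.card Y * 8 by ring] at hd'
    have h8 : orderOf x ∣ 2 ^ 3 := ((hq3.mul_right hd).mul_right hY).dvd_of_dvd_mul_left hd'
    obtain ⟨i, hi, hi'⟩ := (Nat.dvd_prime_pow Nat.prime_two).1 h8
    rcases i with _ | _ | i
    · exact h1 (orderOf_eq_one_iff.1 (by simpa using hi'))
    · exact h2 (by simpa using hi')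
    · exact h.not_four_dvd x (hi' ▸ ⟨2 ^ i, by ring⟩)
  refine h.dvd_of_coprime (_root_.orderOf_dvd_natCard x) ?_
  obtain ⟨f, hf⟩ := h.ree.pow3
  have h2' : (orderOf x).Coprime 2 := (Nat.prime_two.coprime_iff_not_dvd.2 hodd).symm
  rw [← h.cardY]
  refine Nat.Coprime.mul_right (Nat.Coprime.mul_right ?_ (h2'.mul_right hd))
    ((h2'.pow_right 2).mul_right hY)
  rw [hf, ← pow_mul]
  exact (Nat.prime_three.coprime_iff_not_dvd.2 h3).symm.pow_right _

theorem reg_prop {x : G} (h1 : x ≠ 1) (hx : orderOf x ∣ q ^ 2 - q + 1) :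
    orderOf x ≠ 2 ∧ ¬ 3 ∣ orderOf x ∧ (orderOf x).Coprime d ∧ (orderOf x).Coprime (Nat.card Y) := by
  have hc : (orderOf x).Coprime (q ^ 3 * (2 * d) * (q + 1)) := h.cop.2.coprime_dvd_left hx
  refine ⟨fun e => ?_, fun h3 => ?_, hc.coprime_dvd_right ⟨2 * (q + 1) * q ^ 3, by ring⟩,
    hc.coprime_dvd_right (dvd_mul_of_dvd_right (h.cardY ▸ dvd_mul_left _ 4) _)⟩
  · have := hc.coprime_dvd_right (show 2 ∣ q ^ 3 * (2 * d) * (q + 1) from
      dvd_mul_of_dvd_left (dvd_mul_of_dvd_right (dvd_mul_right 2 d) _) _)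
    rw [e] at this
    norm_num at this
  · have := Nat.Coprime.coprime_dvd_left h3 hc |>.coprime_dvd_right
      (show 3 ∣ q ^ 3 * (2 * d) * (q + 1) from
        dvd_mul_of_dvd_left (dvd_mul_of_dvd_left (h.three_dvd.trans (dvd_pow_self q three_ne_zero)) _) _)
    norm_num at this

variable [Fintype G]

/-- The centraliser of such an element has order dividing `q² - q + 1`. -/
theorem cent_reg {x : G} (h1 : x ≠ 1) (hx : orderOf x ∣ q ^ 2 - q + 1) :
    Nat.card (centralizer ({x} : Set G)) ∣ q ^ 2 - q + 1 := by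
  have hc : (orderOf x).Coprime (q ^ 3 * (2 * d) * (q + 1)) := h.cop.2.coprime_dvd_left hx
  have key : ∀ n, orderOf x ∣ n → n ∣ q ^ 3 * (2 * d) * (q + 1) → False := fun n a b =>
    h1 (orderOf_eq_one_iff.1 (Nat.eq_one_of_dvd_coprimes hc dvd_rfl (a.trans b)))
  refine h.dvd_of_coprime (card_subgroup_dvd_card _) (Nat.coprime_of_dvd fun l hl hl1 hl2 => ?_)
  haveI : Fact l.Prime := ⟨hl⟩
  obtain ⟨⟨y, hy⟩, hy'⟩ := exists_prime_orderOf_dvd_card' l hl1
  rw [Subgroup.orderOf_mk] at hy'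
  have hxy : x * y = y * x := (mem_centralizer_singleton_iff.1 hy).symm
  have hcm : ∀ g : G, g * x * g⁻¹ * (g * y * g⁻¹) = g * y * g⁻¹ * (g * x * g⁻¹) := fun g =>
    ((show Commute x y from hxy).map (MulAut.conj g).toMonoidHom).eq
  by_cases hl2' : l = 2
  · subst hl2'
    exact key _ (h.ord_dvd_cent hy' hxy) ⟨q ^ 2, by ring⟩
  by_cases hl3 : l = 3
  · subst hl3
    obtain ⟨g, hg⟩ := h.exists_conj_N (x := y) (by rw [hy'])
    have hxN : g * x * g⁻¹ ∈ N := by
      refine h.mem_N_of_conj hg (by rw [orderOf_conj', hy']) ?_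
      rw [hcm g, mul_inv_cancel_right]
      exact hg
    have := Subgroup.orderOf_dvd_natCard N hxN
    rw [orderOf_conj', h.bn.cardN] at this
    exact key _ this (dvd_mul_right _ _)
  rcases hl.dvd_mul.1 hl2 with h' | h'
  · rcases hl.dvd_mul.1 h' with h'' | h''
    · exact hl3 (by
        obtain ⟨f, hf⟩ := h.ree.pow3
        rw [hf, ← pow_mul] at h''
        exact (Nat.prime_dvd_prime_iff_eq hl Nat.prime_three).1 (hl.dvd_of_dvd_pow h''))
    · have hld : l ∣ d := (hl.dvd_mul.1 h'').resolve_left fun e =>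
        hl2' ((Nat.prime_dvd_prime_iff_eq hl Nat.prime_two).1 e)
      obtain ⟨g, hg⟩ := h.exists_conj_A (x := y)
        (Nat.Prime.not_coprime_iff_dvd.2 ⟨l, hl, by rw [hy'], hld⟩)
      have hxA : g * x * g⁻¹ ∈ zpowers t ⊔ T := by
        refine h.centA hg (fun e => ?_) (fun e => ?_) (hcm g)
        · have := orderOf_conj' g y
          rw [e, orderOf_one, hy'] at this
          exact hl.one_lt.ne this
        · have := orderOf_conj' g y
          rw [e, h.ree.ht, hy'] at this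
          exact hl2' this.symm
      have := Subgroup.orderOf_dvd_natCard _ hxA
      rw [orderOf_conj', h.ree.card_tT] at this
      exact key _ this (dvd_mul_of_dvd_left (dvd_mul_left _ _) _)
  · rw [← h.cardY] at h'
    have hlY : l ∣ Nat.card Y := (hl.dvd_mul.1 h').resolve_left fun e =>
      hl2' ((Nat.prime_dvd_prime_iff_eq hl Nat.prime_two).1
        (hl.dvd_of_dvd_pow (show l ∣ 2 ^ 2 by simpa using e)))
    obtain ⟨g, hg⟩ := h.exists_conj_W (x := y)
      (Nat.Prime.not_coprime_iff_dvd.2 ⟨l, hl, by rw [hy'], hlY⟩)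
    have hy2 : g * y * g⁻¹ * (g * y * g⁻¹) ≠ 1 := fun e => by
      have : orderOf (g * y * g⁻¹) ∣ 2 := orderOf_dvd_of_pow_eq_one (by rw [pow_two]; exact e)
      rw [orderOf_conj', hy'] at this
      exact hl2' ((Nat.prime_dvd_prime_iff_eq hl Nat.prime_two).1 this)
    have hxW : g * x * g⁻¹ ∈ W := (h.ord_W hg hy2).2.2.2 _ (hcm g)
    have := Subgroup.orderOf_dvd_natCard _ hxW
    rw [orderOf_conj', h.cardW] at this
    exact key _ this (dvd_mul_left _ _)

open Classical in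
/-- Splitting a sum over the group. -/
theorem split_sum (f : G → ℕ) :
    ∑ x, f x = f 1 + (∑ x ∈ (Finset.univ.filter fun x : G => orderOf x = 2), f x) +
      (∑ x ∈ (Finset.univ.filter fun x : G => 3 ∣ orderOf x), f x) +
      (∑ x ∈ (Finset.univ.filter fun x : G => ¬ 3 ∣ orderOf x ∧ ¬ (orderOf x).Coprime d), f x) +
      (∑ x ∈ (Finset.univ.filter fun x : G => ¬ 3 ∣ orderOf x ∧ (orderOf x).Coprime d ∧
        ¬ (orderOf x).Coprime (Nat.card Y)), f x) +
      ∑ x ∈ (Finset.univ.filter fun x : G => x ≠ 1 ∧ orderOf x ∣ q ^ 2 - q + 1), f x := by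
  have h1 : f 1 = ∑ x : G, if x = 1 then f x else 0 := by simp
  rw [h1]
  simp only [Finset.sum_filter, ← Finset.sum_add_distrib]
  refine Finset.sum_congr rfl fun x _ => ?_
  by_cases e1 : x = 1
  · subst e1
    simp [orderOf_one]
  by_cases e2 : orderOf x = 2
  · have hd : (orderOf x).Coprime d :=
      e2 ▸ Nat.coprime_two_left.2 (Nat.odd_iff.2 h.ree.d_odd)
    have hY : (orderOf x).Coprime (Nat.card Y) := e2 ▸ Nat.coprime_two_left.2 h.cardY_odd
    have hm : ¬ (orderOf x ∣ q ^ 2 - q + 1) := fun hh => (h.reg_prop e1 hh).1 e2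
    have e3 : ¬ 3 ∣ orderOf x := by rw [e2]; norm_num
    split_ifs <;> first | omega | tauto
  by_cases e3 : 3 ∣ orderOf x
  · have hm : ¬ (orderOf x ∣ q ^ 2 - q + 1) := fun hh => (h.reg_prop e1 hh).2.1 e3
    split_ifs <;> first | omega | tauto
  by_cases e4 : (orderOf x).Coprime d
  · by_cases e5 : (orderOf x).Coprime (Nat.card Y)
    · have hm := h.reg_of e1 e2 e3 e4 e5
      split_ifs <;> first | omega | tauto
    · have hm : ¬ (orderOf x ∣ q ^ 2 - q + 1) := fun hh => e5 (h.reg_prop e1 hh).2.2.2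
      split_ifs <;> first | omega | tauto
  · have hm : ¬ (orderOf x ∣ q ^ 2 - q + 1) := fun hh => e4 (h.reg_prop e1 hh).2.2.1
    split_ifs <;> first | omega | tauto

open Classical in
theorem card_invol :
    (Finset.univ.filter fun v : G => orderOf v = 2).card = q ^ 2 * (q ^ 2 - q + 1) := by
  have hind : (centralizer ({t} : Set G)).index = q ^ 2 * (q ^ 2 - q + 1) := by
    have h1 := (centralizer ({t} : Set G)).card_mul_index
    rw [h.card_centralizer_t, h.card_eq] at h1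
    refine Nat.eq_of_mul_eq_mul_left ?_ (h1.trans (by ring :
      _ = q * (2 * d) * (q + 1) * (q ^ 2 * (q ^ 2 - q + 1))))
    have := h.d_big
    have := h.ree.q_pos
    positivity
  rw [card_conj_union {t} (centralizer ({t} : Set G)) _ ?_ ?_ ?_, hind, Finset.card_singleton,
    mul_one]
  · intro x
    simp only [Finset.mem_filter, Finset.mem_univ, true_and, Finset.mem_singleton]
    refine ⟨fun hx => isConj_iff.1 (h.ree.conj x hx).symm, fun ⟨g, hg⟩ => ?_⟩
    rw [← orderOf_conj' g x, hg, h.ree.ht]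
  · intro g hg x hx
    rw [Finset.mem_singleton] at hx ⊢
    rw [hx, mem_centralizer_singleton_iff.1 hg, mul_inv_cancel_right]
  · intro g x hx hgx
    rw [Finset.mem_singleton] at hx hgx
    rw [hx] at hgx
    exact mem_centralizer_singleton_iff.2 (mul_inv_eq_iff_eq_mul.1 hgx)

theorem nInv_invol {x : G} (hx : orderOf x = 2) : nInv x = q * (q - 1) + 1 := by
  obtain ⟨g, hg⟩ := isConj_iff.1 (h.ree.conj x hx)
  rw [← hg, nInv_conj, ← h.invC]
  exact Nat.card_congr (Equiv.subtypeEquivRight fun u => by rw [h.ree.t_inv, mul_inv_eq_iff_eq_mul])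

open Classical in
/-- The number of elements of order divisible by three, and of their inverting pairs. -/
theorem sum_three :
    (Finset.univ.filter fun x : G => 3 ∣ orderOf x).card + (q + 1) * (q ^ 2 - q + 1) * (q ^ 2 + 1) =
        (q + 1) * (q ^ 2 - q + 1) * (2 * q ^ 3) ∧
      ∑ x ∈ (Finset.univ.filter fun x : G => 3 ∣ orderOf x), nInv x =
        (q + 1) * (q ^ 2 - q + 1) * (q ^ 2 * (q ^ 2 - 1)) := by
  have hind : N.index = (q + 1) * (q ^ 2 - q + 1) := by
    have h1 := N.card_mul_index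
    rw [h.bn.cardN, h.card_eq] at h1
    refine Nat.eq_of_mul_eq_mul_left ?_ (h1.trans (by ring :
      _ = q ^ 3 * (2 * d) * ((q + 1) * (q ^ 2 - q + 1))))
    have := h.d_big
    have := h.ree.q_pos
    positivity
  have a : ∀ x : G, x ∈ (Finset.univ.filter fun x : G => 3 ∣ orderOf x) ↔
      ∃ g : G, g * x * g⁻¹ ∈ (Finset.univ.filter fun g : G => g ∈ N ∧ 3 ∣ orderOf g) := by
    intro x
    simp only [Finset.mem_filter, Finset.mem_univ, true_and, orderOf_conj']
    exact ⟨fun h3 => (h.exists_conj_N h3).imp fun g hg => ⟨hg, h3⟩, fun ⟨_, _, h3⟩ => h3⟩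
  have b : ∀ g ∈ N, ∀ x ∈ (Finset.univ.filter fun g : G => g ∈ N ∧ 3 ∣ orderOf g),
      g * x * g⁻¹ ∈ (Finset.univ.filter fun g : G => g ∈ N ∧ 3 ∣ orderOf g) := by
    intro g hg x hx
    simp only [Finset.mem_filter, Finset.mem_univ, true_and, orderOf_conj'] at hx ⊢
    exact ⟨mul_mem (mul_mem hg hx.1) (inv_mem hg), hx.2⟩
  have c : ∀ g : G, ∀ x ∈ (Finset.univ.filter fun g : G => g ∈ N ∧ 3 ∣ orderOf g),
      g * x * g⁻¹ ∈ (Finset.univ.filter fun g : G => g ∈ N ∧ 3 ∣ orderOf g) → g ∈ N := by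
    intro g x hx hgx
    simp only [Finset.mem_filter, Finset.mem_univ, true_and] at hx hgx
    exact h.mem_N_of_conj hx.1 hx.2 hgx.1
  refine ⟨?_, ?_⟩
  · rw [card_conj_union _ N _ a b c, hind, ← mul_add, ← add_assoc, h.card_S3]
  · rw [sum_conj_union _ N _ a b c nInv nInv_conj, hind, h.sum_nInv_S3]

set_option maxHeartbeats 800000 in
open Classical in
/-- If no element order meets both `q + 1 + 3 r` and `q + 1 - 3 r`, every element of order dividing
`q² - q + 1` is inverted by an involution. -/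
theorem exists_inverting {r : ℕ} (hr : q = 3 * r ^ 2)
    (nomix : ∀ x : G, x ≠ 1 → orderOf x ∣ q ^ 2 - q + 1 →
      orderOf x ∣ q + 1 + 3 * r ∨ orderOf x ∣ q + 1 - 3 * r) :
    ∀ x : G, x ≠ 1 → orderOf x ∣ q ^ 2 - q + 1 →
      ∃ u : G, orderOf u = 2 ∧ u * x * u⁻¹ = x⁻¹ := by
  have hq := h.q_eq
  have hd := h.d_big
  have hr0 : 0 < r := Nat.pos_of_ne_zero fun e => by rw [e] at hr; norm_num at hr; omega
  have hle : q ≤ q ^ 2 := Nat.le_self_pow two_ne_zero q
  have hlr : 3 * r ≤ q + 1 := by nlinarith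
  set m := q ^ 2 - q + 1 with hm
  set mp := q + 1 + 3 * r with hmp
  set mm := q + 1 - 3 * r with hmm
  have hmZ : (m : ℤ) = (q : ℤ) ^ 2 - q + 1 := by rw [hm]; push_cast [Nat.cast_sub hle]; ring
  have hrZ : (q : ℤ) = 3 * (r : ℤ) ^ 2 := by exact_mod_cast hr
  have hmmZ : (mm : ℤ) = q + 1 - 3 * r := by rw [hmm]; push_cast [Nat.cast_sub hlr]; ring
  have hprod : mp * mm = m := by
    zify
    rw [hmmZ, hmZ, hmp]
    push_cast
    linear_combination (3 : ℤ) * hrZ
  have hcop : mp.Coprime mm := by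
    refine Nat.coprime_of_dvd fun l hl h1 h2 => ?_
    have hlm : l ∣ m := hprod ▸ h1.mul_right _
    have h6 : (l : ℤ) ∣ 6 * r := by
      have := dvd_sub (Int.natCast_dvd_natCast.2 h1) (Int.natCast_dvd_natCast.2 h2)
      rw [hmmZ, hmp] at this
      push_cast at this
      rwa [show ((q : ℤ) + 1 + 3 * r) - (q + 1 - 3 * r) = 6 * r by ring] at this
    have h6' : l ∣ 6 * r := by exact_mod_cast h6
    refine hl.one_lt.ne' (Nat.eq_one_of_dvd_coprimes h.cop.2 hlm ?_)
    have hlq : l ∣ 2 * q := by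
      rcases hl.dvd_mul.1 h6' with h' | h'
      · exact h'.trans (by rw [hr]; exact ⟨r ^ 2, by ring⟩)
      · exact h'.trans (by rw [hr]; exact ⟨6 * r, by ring⟩)
    exact hlq.trans ⟨q ^ 2 * d * (q + 1), by ring⟩
  set R := (Finset.univ : Finset G).filter (fun x : G => x ≠ 1 ∧ orderOf x ∣ m) with hR
  set Rp := R.filter (fun x => orderOf x ∣ mp) with hRp
  set Rm := R.filter (fun x => ¬ orderOf x ∣ mp) with hRm
  have hRmem : ∀ x, x ∈ R ↔ x ≠ 1 ∧ orderOf x ∣ m := fun x => by simp [hR]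
  -- centralisers
  have hcent : ∀ n n' : ℕ, n.Coprime n' → n * n' = m → (∀ x : G, x ≠ 1 → orderOf x ∣ m →
      orderOf x ∣ n ∨ orderOf x ∣ n') → ∀ x : G, x ≠ 1 → orderOf x ∣ n →
      Nat.card (centralizer ({x} : Set G)) ∣ n := by
    intro n n' hnn hnm hno x h1 hx
    have hxm : orderOf x ∣ m := hx.trans (hnm ▸ dvd_mul_right n n')
    have hC := h.cent_reg h1 hxm
    refine Nat.Coprime.dvd_of_dvd_mul_right (Nat.coprime_of_dvd fun l hl hl1 hl2 => ?_)
      (hC.trans (dvd_of_eq hnm.symm))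
    haveI : Fact l.Prime := ⟨hl⟩
    obtain ⟨⟨y, hy⟩, hy'⟩ := exists_prime_orderOf_dvd_card' l hl1
    rw [Subgroup.orderOf_mk] at hy'
    have hcp : (orderOf x).Coprime (orderOf y) :=
      hy' ▸ (hnn.coprime_dvd_left hx).coprime_dvd_right hl2
    have ho := (show Commute x y from (mem_centralizer_singleton_iff.1 hy).symm
      ).orderOf_mul_eq_mul_orderOf_of_coprime hcp
    have hxy1 : x * y ≠ 1 := fun e => by
      rw [e, orderOf_one] at ho
      exact h1 (orderOf_eq_one_iff.1 (Nat.eq_one_of_mul_eq_one_right ho.symm))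
    have hxym : orderOf (x * y) ∣ m := by
      rw [ho, ← hnm, hy']; exact mul_dvd_mul hx hl2
    rcases hno _ hxy1 hxym with h' | h'
    · rw [ho] at h'
      have := Nat.eq_one_of_dvd_coprimes hnn ((dvd_mul_left _ _).trans h') (hy' ▸ hl2)
      rw [hy'] at this
      exact hl.one_lt.ne' this
    · rw [ho] at h'
      exact h1 (orderOf_eq_one_iff.1
        (Nat.eq_one_of_dvd_coprimes hnn hx ((dvd_mul_right _ _).trans h')))
  have hCp : ∀ x ∈ Rp, Nat.card (centralizer ({x} : Set G)) ∣ mp := fun x hx => by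
    obtain ⟨hxR, hxp⟩ := Finset.mem_filter.1 hx
    exact hcent mp mm hcop hprod nomix x ((hRmem x).1 hxR).1 hxp
  have hCm : ∀ x ∈ Rm, Nat.card (centralizer ({x} : Set G)) ∣ mm := fun x hx => by
    obtain ⟨hxR, hxp⟩ := Finset.mem_filter.1 hx
    obtain ⟨h1, hxm⟩ := (hRmem x).1 hxR
    exact hcent mm mp hcop.symm (by rw [mul_comm]; exact hprod)
      (fun y a b => (nomix y a b).symm) x h1 ((nomix x h1 hxm).resolve_left hxp)
  have hconjR : ∀ g x : G, x ∈ R → g * x * g⁻¹ ∈ R := fun g x hx => by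
    rw [hRmem, orderOf_conj'] at *
    exact ⟨fun e => hx.1 (conj_eq_one_iff.1 e), hx.2⟩
  obtain ⟨a, ha⟩ := card_dvd_of_centralizer Rp (fun g x hx => by
    rw [hRp, Finset.mem_filter, orderOf_conj'] at *
    exact ⟨hconjR g x hx.1, hx.2⟩) hCp
  obtain ⟨b, hb⟩ := card_dvd_of_centralizer Rm (fun g x hx => by
    rw [hRm, Finset.mem_filter, orderOf_conj'] at *
    exact ⟨hconjR g x hx.1, hx.2⟩) hCm
  have hcR : Rp.card + Rm.card = R.card := Finset.card_filter_add_card_filter_not _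
  -- the size of R
  obtain ⟨h3c, h3s⟩ := h.sum_three
  have h4c := h.sum_A (fun _ => 1) (fun _ _ => rfl) 1 (fun _ _ _ _ => rfl)
  have h5c := h.sum_W (fun _ => 1) (fun _ _ => rfl) 1 (fun _ _ _ => rfl)
  have h4s := h.sum_A nInv nInv_conj (2 * d) (fun a ha h1 ht => h.nInv_A ha h1 ht)
  have h5s := h.sum_W nInv nInv_conj (q + 1) h.nInvW
  have hsplit := h.split_sum (fun _ => 1)
  have hsplit' := h.split_sum nInv
  have hI := h.card_invol
  rw [sum_nInv hI, show nInv (1 : G) = q ^ 2 * m by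
      rw [nInv_eq, ← hI]; congr 1; ext u; simp,
    Finset.sum_congr rfl (fun x hx => h.nInv_invol (Finset.mem_filter.1 hx).2),
    Finset.sum_const, smul_eq_mul, hI, h3s] at hsplit'
  simp only [Finset.sum_const, smul_eq_mul, mul_one] at hsplit h4c h5c
  rw [Finset.card_univ, ← Nat.card_eq_fintype_card, hI] at hsplit
  have hG := h.card_eq
  rw [← hR] at hsplit hsplit'
  rw [← hm] at hG h3c hsplit hsplit'
  set X := ∑ x ∈ R, nInv x with hX
  obtain ⟨e, rfl⟩ : ∃ e, d = e + 1 := ⟨d - 1, by omega⟩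
  have hqe : q = 2 * e + 3 := by omega
  have hm' : m + q = q ^ 2 + 1 := by omega
  rw [show 2 * (e + 1) - 2 = 2 * e by omega] at h4c h4s
  rw [show q - 3 = 2 * e by omega] at h5c h5s
  have hR3 := count_size hqe hm' hG h3c h4c h5c hsplit
  have hX3 := count_sum hqe hm' hG h4s h5s hsplit'
  have hmm0 : 0 < mm := Nat.pos_of_ne_zero fun e0 => by
    rw [e0, mul_zero] at hprod; nlinarith
  have hij : 3 * ((a : ℤ) + b) = q := solve_classes (n := (Nat.card G : ℤ)) (cp := (Rp.card : ℤ)) (cm := (Rm.card : ℤ))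
    (mp := (mp : ℤ)) (mm := (mm : ℤ)) (by exact_mod_cast (Nat.card_pos (α := G)).ne')
    hrZ (by rw [hmp]; push_cast; ring) hmmZ hmZ (by rw [hmp]; positivity) (by exact_mod_cast hmm0)
    (by positivity) (by positivity) (Nat.Coprime.isCoprime hcop) hR3 (by exact_mod_cast hcR)
    (by exact_mod_cast ha) (by exact_mod_cast hb)
  have hle1 : X ≤ ∑ x ∈ R, Nat.card (centralizer ({x} : Set G)) :=
    Finset.sum_le_sum fun x _ => nInv_le x
  have hle2 : ∑ x ∈ R, Nat.card (centralizer ({x} : Set G)) ≤ X := by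
    rw [← Finset.sum_filter_add_sum_filter_not R (fun x => orderOf x ∣ mp)]
    have h1 : ∑ x ∈ Rp, Nat.card (centralizer ({x} : Set G)) ≤ mp * Rp.card := by
      rw [mul_comm, ← smul_eq_mul, ← Finset.sum_const]
      exact Finset.sum_le_sum fun x hx => Nat.le_of_dvd (by omega) (by exact_mod_cast hCp x hx)
    have h2 : ∑ x ∈ Rm, Nat.card (centralizer ({x} : Set G)) ≤ mm * Rm.card := by
      rw [mul_comm, ← smul_eq_mul, ← Finset.sum_const]
      exact Finset.sum_le_sum fun x hx => Nat.le_of_dvd (by omega) (by exact_mod_cast hCm x hx)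
    refine (Nat.add_le_add h1 h2).trans ?_
    zify
    nlinarith
  intro x h1 hx
  have hxR : x ∈ R := (hRmem x).2 ⟨h1, hx⟩
  have heq := (Finset.sum_eq_sum_iff_of_le fun y _ => nInv_le y).1 (le_antisymm hle1 hle2) x hxR
  have hpos : 0 < nInv x := heq ▸ Nat.card_pos
  obtain ⟨⟨u, hu⟩⟩ := (Nat.card_pos_iff.1 hpos).1
  exact ⟨u, hu⟩

end Setting

end Cfsg.Agent.Lib.ReeTorus80
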