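import Cfsg.Agent.Lib.AllAbelian80.Ree.Normalizer
import Cfsg.Agent.Lib.ReeTorus80.Count

/-!
# Ree order: the setting for the class counting

`q = 2 d + 1` a power of three, `|G| = q³(q³+1)(q-1)`; `P`, `N` the Sylow 3-subgroup and its normaliser,
`T` the odd part of the split torus, `W = V × Y` the centraliser of a four-group, `Y` its odd part.

Owner: helper80.
-/

set_option autoImplicit false
set_option linter.unusedSectionVars false
set_option linter.style.haveILetI false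

namespace Cfsg.Agent.Lib.ReeTorus80

open Subgroup
open Cfsg.Agent.Lib.AllAbelian80.Ree

/-- The setting. -/
structure Setting (G : Type*) [Group G] (q d : ℕ) (t s : G) (E U T P N M Y W : Subgroup G) : Prop where
  ree : Hyp G q d t s E U T
  bn : BN G q d t s T P N M
  UP : U ≤ P
  fixU : ∀ x ∈ P, x * t = t * x → x ∈ U
  cardY : 4 * Nat.card Y = q + 1
  YW : Y ≤ W
  commW : ∀ a ∈ W, ∀ b ∈ W, a * b = b * a
  cardW : Nat.card W = q + 1
  sqW : ∀ g ∈ W, g * g ∈ Y
  card_sqW : Nat.card {g : W // (g : G) * g = 1} = 4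
  centY : ∀ y ∈ Y, y ≠ 1 → ∀ g : G, g * y = y * g → g ∈ W
  cardNW : Nat.card (normalizer (W : Set G)) = 6 * (q + 1)
  nInvW : ∀ g ∈ W, g * g ≠ 1 → nInv g = q + 1
  invC : Nat.card {u : G // orderOf u = 2 ∧ u * t = t * u} = q * (q - 1) + 1

variable {G : Type*} [Group G] [Finite G] {q d : ℕ} {t s : G} {E U T P N M Y W : Subgroup G}

/-- A power of prime order. -/
theorem exists_pow_prime {x : G} {l : ℕ} (hl : l ∣ orderOf x) :
    ∃ k, orderOf (x ^ k) = l := by
  obtain ⟨k, hk⟩ := hl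
  refine ⟨k, ?_⟩
  have hx := orderOf_pos x
  have hk0 : k ≠ 0 := fun h => by rw [h, mul_zero] at hk; omega
  rw [orderOf_pow' x hk0, hk, Nat.gcd_eq_right (dvd_mul_left k l),
    Nat.mul_div_cancel _ (Nat.pos_of_ne_zero hk0)]

/-- An element of prime order `l` is conjugate into a subgroup containing a Sylow `l`-subgroup. -/
theorem exists_conj_hall {A : Subgroup G} {l n r : ℕ} (hl : l.Prime) (hA : Nat.card A = n)
    (hG : Nat.card G = n * r) (hr : ¬ l ∣ r) {x : G} (hx : x ^ l = 1) :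
    ∃ g : G, g * x * g⁻¹ ∈ A := by
  haveI : Fact l.Prime := ⟨hl⟩
  obtain ⟨Q⟩ := (inferInstance : Nonempty (Sylow l A))
  have hn : n ≠ 0 := hA ▸ Nat.card_pos.ne'
  have hc : Nat.card ((Q : Subgroup A).map A.subtype) = l ^ (Nat.card G).factorization l := by
    rw [card_map_of_injective A.subtype_injective, Q.card_eq_multiplicity, hA, hG,
      Nat.factorization_mul hn (fun h0 => hr (by rw [h0]; exact dvd_zero l)), Finsupp.add_apply,
      Nat.factorization_eq_zero_of_not_dvd hr, add_zero]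
  let S : Sylow l G := Sylow.ofCard _ hc
  have hz : IsPGroup l ↥(zpowers x) := fun y => ⟨1, by
    obtain ⟨j, hj⟩ := mem_zpowers_iff.1 y.2
    refine Subtype.ext ?_
    rw [pow_one, SubgroupClass.coe_pow, ← hj, ← zpow_natCast, ← zpow_mul, mul_comm, zpow_mul,
      zpow_natCast, hx, one_zpow]
    rfl⟩
  obtain ⟨R, hR⟩ := hz.exists_le_sylow
  obtain ⟨g, hg⟩ := MulAction.exists_smul_eq G R S
  refine ⟨g, map_subtype_le (Q : Subgroup A) ?_⟩
  have hm : MulAut.conj g • x ∈ (g • R : Sylow l G) := by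
    rw [Sylow.smul_def]
    exact Subgroup.smul_mem_pointwise_smul _ _ _ (hR (mem_zpowers _))
  rw [hg] at hm
  exact hm

namespace Setting

variable (h : Setting G q d t s E U T P N M Y W)
include h

/-- `q² - q + 1`. -/
theorem card_eq : Nat.card G = q ^ 3 * (2 * d) * (q + 1) * (q ^ 2 - q + 1) := by
  have hle : q ≤ q ^ 2 := Nat.le_self_pow two_ne_zero q
  rw [h.ree.card']
  zify [hle]
  ring

theorem q_eq : q = 2 * d + 1 := h.ree.q_eq

theorem d_big : 2 ≤ d := h.ree.d_big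

theorem three_dvd : 3 ∣ q := h.ree.three_not_dvd.2.2.2

theorem cardY_odd : Odd (Nat.card Y) := by
  have h4 := h.cardY
  obtain ⟨f, hf⟩ := h.ree.pow3
  have hd := h.ree.d_odd
  have hq := h.q_eq
  have : q % 8 = 3 := by
    have h8 : 3 ^ f % 8 = 1 ∨ 3 ^ f % 8 = 3 := by
      rcases Nat.even_or_odd f with ⟨i, hi⟩ | ⟨i, hi⟩
      · left; rw [hi, ← two_mul, pow_mul, Nat.pow_mod]; norm_num
      · right; rw [hi, pow_succ, pow_mul, Nat.mul_mod, Nat.pow_mod]; norm_num
    rw [← hf] at h8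
    omega
  exact Nat.odd_iff.2 (by omega)

/-- `d`, `|Y|`, six and `q² - q + 1` are pairwise coprime as far as needed. -/
theorem cop : Nat.Coprime d (q + 1) ∧ Nat.Coprime (q ^ 2 - q + 1) (q ^ 3 * (2 * d) * (q + 1)) := by
  have hd := h.d_big
  have hq := h.q_eq
  obtain ⟨k, hk⟩ : Odd d := Nat.odd_iff.2 h.ree.d_odd
  refine ⟨?_, ?_⟩
  · rw [hq, show 2 * d + 1 + 1 = 2 + 2 * d by ring, Nat.coprime_add_mul_right_right]
    exact Nat.coprime_two_right.2 ⟨k, hk⟩
  have hle : q ≤ q ^ 2 := Nat.le_self_pow two_ne_zero q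
  obtain ⟨h3d, h3q, -, h3⟩ := h.ree.three_not_dvd
  refine Nat.coprime_of_dvd fun l hl hlm hlr => ?_
  rw [← Int.natCast_dvd_natCast] at hlm
  push_cast [Nat.cast_sub hle] at hlm
  have hl' := Nat.prime_iff_prime_int.1 hl
  rcases hl.dvd_mul.1 hlr with h1 | h1
  · rcases hl.dvd_mul.1 h1 with h2 | h2
    · have h4 : (l : ℤ) ∣ q := by exact_mod_cast hl.dvd_of_dvd_pow h2
      have h5 : (l : ℤ) ∣ 1 := by
        have := dvd_sub hlm (h4.mul_right ((q : ℤ) - 1))
        rwa [show (q : ℤ) ^ 2 - q + 1 - q * ((q : ℤ) - 1) = 1 by ring] at this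
      exact hl'.not_dvd_one h5
    · have h4 : (l : ℤ) ∣ (q : ℤ) - 1 := by
        have h6 : (l : ℤ) ∣ ((2 * d : ℕ) : ℤ) := by exact_mod_cast h2
        rwa [show ((2 * d : ℕ) : ℤ) = (q : ℤ) - 1 by rw [hq]; push_cast; ring] at h6
      have h5 : (l : ℤ) ∣ 1 := by
        have := dvd_sub hlm (h4.mul_left (q : ℤ))
        rwa [show (q : ℤ) ^ 2 - q + 1 - (q : ℤ) * ((q : ℤ) - 1) = 1 by ring] at this
      exact hl'.not_dvd_one h5
  · have h4 : (l : ℤ) ∣ (q : ℤ) + 1 := by exact_mod_cast h1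
    have h5 : (l : ℤ) ∣ 3 := by
      have := dvd_sub hlm (h4.mul_right ((q : ℤ) - 2))
      rwa [show (q : ℤ) ^ 2 - q + 1 - ((q : ℤ) + 1) * ((q : ℤ) - 2) = 3 by ring] at this
    have : l ∣ 3 := by exact_mod_cast h5
    obtain rfl := (Nat.prime_dvd_prime_iff_eq hl Nat.prime_three).1 this
    omega

end Setting

end Cfsg.Agent.Lib.ReeTorus80
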