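import Cfsg.Agent.Lib.ReeTorus80.Borel

/-!
# Ree order: the elements of the tori of orders `q - 1` and `q + 1`

Owner: helper80.
-/

set_option autoImplicit false
set_option linter.unusedSectionVars false
set_option linter.style.haveILetI false

namespace Cfsg.Agent.Lib.ReeTorus80

open Subgroup
open Cfsg.Agent.Lib.AllAbelian80.Ree

namespace Setting

variable {G : Type*} [Group G] [Finite G] {q d : ℕ} {t s : G} {E U T P N M Y W : Subgroup G}
  (h : Setting G q d t s E U T P N M Y W)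
include h

theorem s_inv_A {a : G} (ha : a ∈ zpowers t ⊔ T) : s * a * s⁻¹ = a⁻¹ := by
  rcases h.ree.mem_tT ha with ha' | ha'
  · exact h.ree.inv a ha'
  · have e : a = t * (t * a) := by rw [← mul_assoc, h.ree.tt, one_mul]
    have hst : s * t * s⁻¹ = t⁻¹ := by rw [← h.ree.ts, mul_inv_cancel_right, h.ree.t_inv]
    calc s * a * s⁻¹ = (s * t * s⁻¹) * (s * (t * a) * s⁻¹) := by nth_rw 1 [e]; group
      _ = t⁻¹ * (t * a)⁻¹ := by rw [hst, h.ree.inv _ ha']
      _ = a⁻¹ := by
        rw [← mul_inv_rev]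
        congr 1
        rw [h.A_comm (mul_mem (mem_sup_left (mem_zpowers t)) ha) (mem_sup_left (mem_zpowers t)),
          ← mul_assoc, h.ree.tt, one_mul]

theorem s_notin_A : s ∉ zpowers t ⊔ T := fun hs => h.bn.sN (h.A_le_N hs)

/-- An element commuting with a non-trivial element of `T` lies in `⟨t⟩T`. -/
theorem centT_le {a g : G} (ha : a ∈ T) (ha1 : a ≠ 1) (hg : g * a = a * g) :
    g ∈ zpowers t ⊔ T := by
  have haA : a ∈ zpowers t ⊔ T := mem_sup_right ha
  have hat : a ≠ t := fun e => h.ree.tE (e ▸ h.ree.TE ha)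
  have haN : a ∈ N := h.A_le_N haA
  by_cases hgN : g ∈ N
  · obtain ⟨p, hp, b, hb, rfl⟩ := h.N_decomp hgN
    have hp' : a * p * a⁻¹ ∈ P := h.bn.norm a haN p hp
    obtain ⟨e, -⟩ := h.N_unique hp' hp (mul_mem haA hb) (mul_mem hb haA) (show
      a * p * a⁻¹ * (a * b) = p * (b * a) by rw [← mul_assoc p, hg]; group)
    rw [h.semiregA haA ha1 hat hp (mul_inv_eq_iff_eq_mul.1 e), one_mul]
    exact hb
  exfalso
  obtain ⟨p, hp, b, hb, rfl⟩ := h.bn.cover g hgN
  have hp' : a * p * a⁻¹ ∈ P := h.bn.norm a haN p hp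
  have hsa : s * a⁻¹ = a * s := by
    have := h.s_inv_A haA
    rw [← this]
    calc s * (s * a * s⁻¹) = (s * s) * a * s⁻¹ := by group
      _ = a * s⁻¹ := by rw [h.ree.sq, one_mul]
      _ = a * s := by rw [inv_eq_of_mul_eq_one_right h.ree.sq]
  have key : a * p * a⁻¹ * s * (a⁻¹ * b) = p * s * (b * a) :=
    calc a * p * a⁻¹ * s * (a⁻¹ * b) = a * p * a⁻¹ * (s * a⁻¹) * b := by group
      _ = a * (p * s * b) := by rw [hsa]; group
      _ = p * s * b * a := hg.symm
      _ = _ := by group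
  set x : G := p⁻¹ * (a * p * a⁻¹) with hx
  have hxP : x ∈ P := mul_mem (inv_mem hp) hp'
  have hsx : s⁻¹ * x * s = b * a * (a⁻¹ * b)⁻¹ :=
    calc s⁻¹ * x * s = s⁻¹ * p⁻¹ * (a * p * a⁻¹ * s * (a⁻¹ * b)) * (a⁻¹ * b)⁻¹ := by rw [hx]; group
      _ = _ := by rw [key]; group
  have hx1 : x = 1 := by
    refine h.bn.ti s h.bn.sN x hxP (h.bn.unique _ ?_ ((Nat.card P).factorization 3) ?_)
    · rw [hsx]
      exact mul_mem (mul_mem hb haN) (inv_mem (mul_mem (inv_mem haN) hb))
    · rw [show s⁻¹ * x * s = s⁻¹ * x * s⁻¹⁻¹ by rw [inv_inv], conj_pow]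
      obtain ⟨f, hf⟩ := h.ree.pow3
      have : (Nat.card P).factorization 3 = f * 3 := by
        rw [h.bn.cardP, hf, ← pow_mul, Nat.prime_three.factorization_pow, Finsupp.single_eq_same]
      rw [this, orderOf_dvd_iff_pow_eq_one.1 (show orderOf x ∣ 3 ^ (f * 3) by
        rw [pow_mul, ← hf, ← h.bn.cardP]; exact Subgroup.orderOf_dvd_natCard P hxP), mul_one,
        mul_inv_cancel]
  rw [hx, inv_mul_eq_one] at hx1
  have hp1 : p = 1 := h.semiregA haA ha1 hat hp (mul_inv_eq_iff_eq_mul.1 hx1.symm)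
  subst hp1
  simp only [mul_one, mul_inv_cancel, one_mul] at key
  have hba : a⁻¹ * b = b * a := mul_left_cancel key
  obtain ⟨p2, hp2, c, hc, rfl⟩ := h.N_decomp hb
  have hca := h.A_comm hc haA
  obtain ⟨-, e⟩ := h.N_unique (h.bn.norm a⁻¹ (inv_mem haN) p2 hp2) hp2
    (mul_mem (inv_mem haA) hc) (mul_mem hc haA)
    (show a⁻¹ * p2 * a⁻¹⁻¹ * (a⁻¹ * c) = p2 * (c * a) by rw [← mul_assoc p2, ← hba]; group)
  rw [hca] at e
  exact h.ree.T_inv_ne ha ha1 (mul_right_cancel e)

/-- The centraliser of a non-central element of `A` is `A`. -/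
theorem centA {a g : G} (ha : a ∈ zpowers t ⊔ T) (h1 : a ≠ 1) (ht : a ≠ t)
    (hg : g * a = a * g) : g ∈ zpowers t ⊔ T :=
  h.centT_le (h.A_sq ha).1 (fun e => ((h.A_sq ha).2 e).elim h1 ht)
    ((show Commute g a from hg).mul_right hg).eq

/-- The normaliser of `A` is `A ∪ sA`. -/
theorem mem_normalizer_A {g : G} (hg : g ∈ normalizer ((zpowers t ⊔ T : Subgroup G) : Set G)) :
    g ∈ zpowers t ⊔ T ∨ s * g ∈ zpowers t ⊔ T := by
  have htA : t ∈ zpowers t ⊔ T := mem_sup_left (mem_zpowers t)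
  have hgt : g * t * g⁻¹ = t := by
    have hm := (mem_normalizer_iff.1 hg t).1 htA
    have h2 : g * t * g⁻¹ * (g * t * g⁻¹) = 1 := by
      rw [show g * t * g⁻¹ * (g * t * g⁻¹) = g * (t * t) * g⁻¹ by group, h.ree.tt, mul_one,
        mul_inv_cancel]
    exact ((h.A_sq hm).2 h2).resolve_left fun e => h.t_ne (conj_eq_one_iff.1 e)
  obtain ⟨a, ha, ha1⟩ := h.ree.exists_T_ne
  have haT : g * a * g⁻¹ ∈ T := by
    rcases h.ree.mem_tT ((mem_normalizer_iff.1 hg a).1 (mem_sup_right ha)) with h' | h'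
    · exact h'
    exfalso
    have hodd : Odd (orderOf (g * a * g⁻¹)) := by rw [orderOf_conj']; exact h.ree.odd_orderOf_T ha
    have hcm : Commute (g * a * g⁻¹) t :=
      h.A_comm ((mem_normalizer_iff.1 hg a).1 (mem_sup_right ha)) htA
    have hE := h.ree.mem_E_of_odd hcm.eq hodd
    exact h.ree.tE ((mul_mem_cancel_right hE).1 (h.ree.TE h'))
  have htw : ∀ e ∈ E, e * a * e⁻¹ ∈ T → e ∈ (zpowers t ⊔ T : Subgroup G) ∨ s * e ∈ zpowers t ⊔ T :=
    fun e he hea => (h.ree.normT a ha ha1 e he hea).imp mem_sup_right mem_sup_right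
  rcases h.ree.cent g (mul_inv_eq_iff_eq_mul.1 hgt) with he | he
  · exact htw g he haT
  · have hea : t * g * a * (t * g)⁻¹ ∈ T := by
      rw [show t * g * a * (t * g)⁻¹ = t * (g * a * g⁻¹) * t⁻¹ by group,
        ← h.ree.comm _ (h.ree.TE haT), mul_inv_cancel_right]
      exact haT
    rcases htw _ he hea with h' | h'
    · exact Or.inl (by simpa [← mul_assoc, h.ree.tt] using mul_mem htA h')
    · refine Or.inr ?_
      rw [show s * g = t * (s * (t * g)) by
        rw [← mul_assoc, ← mul_assoc, h.ree.ts, mul_assoc s t t, h.ree.tt, mul_one]]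
      exact mul_mem htA h'

variable [Fintype G]

theorem card_normalizer_A :
    Nat.card (normalizer ((zpowers t ⊔ T : Subgroup G) : Set G)) = 4 * d := by
  classical
  set A : Subgroup G := zpowers t ⊔ T with hA
  set NA : Subgroup G := normalizer (A : Set G) with hNA
  have hsN : s ∈ NA := by
    refine mem_normalizer_iff.2 fun x => ⟨fun hx => ?_, fun hx => ?_⟩
    · rw [h.s_inv_A hx]; exact inv_mem hx
    · have := h.s_inv_A hx
      rw [show s * (s * x * s⁻¹) * s⁻¹ = (s * s) * x * (s * s)⁻¹ by group, h.ree.sq, one_mul,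
        inv_one, mul_one] at this
      exact this ▸ inv_mem hx
  let e : Bool × A ≃ NA := Equiv.ofBijective
    (fun p => if p.1 then ⟨s * p.2, mul_mem hsN (le_normalizer p.2.2)⟩
      else ⟨p.2, le_normalizer p.2.2⟩) ⟨by
      rintro ⟨b, x, hx⟩ ⟨b', y, hy⟩ hh
      cases b <;> cases b' <;> simp only [Bool.false_eq_true, if_false, if_true, Subtype.mk.injEq] at hh
      · subst hh; rfl
      · exact absurd (show s = x * y⁻¹ by rw [hh, mul_inv_cancel_right])
          fun e => h.s_notin_A (e ▸ mul_mem hx (inv_mem hy))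
      · exact absurd (show s = y * x⁻¹ by rw [← hh, mul_inv_cancel_right])
          fun e => h.s_notin_A (e ▸ mul_mem hy (inv_mem hx))
      · obtain rfl := mul_left_cancel hh; rfl, by
      rintro ⟨g, hg⟩
      rcases h.mem_normalizer_A hg with hg' | hg'
      · exact ⟨(false, ⟨g, hg'⟩), rfl⟩
      · refine ⟨(true, ⟨s * g, hg'⟩), Subtype.ext ?_⟩
        show s * (s * g) = g
        rw [← mul_assoc, h.ree.sq, one_mul]⟩
  rw [← Nat.card_congr e, Nat.card_prod, h.ree.card_tT]
  simp only [Nat.card_eq_fintype_card, Fintype.card_bool]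
  ring

/-- Exactly the `2d` elements of `sA` invert an element of `A` of order above two. -/
theorem nInv_A {a : G} (ha : a ∈ zpowers t ⊔ T) (h1 : a ≠ 1) (ht : a ≠ t) : nInv a = 2 * d := by
  rw [← h.ree.card_tT]
  have hs2 : ∀ b ∈ (zpowers t ⊔ T : Subgroup G), s * b * (s * b) = 1 := fun b hb => by
    rw [show s * b * (s * b) = s * b * s * b by group]
    nth_rw 2 [← inv_eq_of_mul_eq_one_right h.ree.sq]
    rw [h.s_inv_A hb, inv_mul_cancel]
  refine (Nat.card_congr (Equiv.ofBijective (fun b : ↥(zpowers t ⊔ T) =>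
    (⟨s * b, orderOf_eq_prime (by rw [pow_two]; exact hs2 b b.2)
      (fun e => h.s_notin_A (by rw [eq_inv_of_mul_eq_one_left e]; exact inv_mem b.2)), ?_⟩ :
      {u : G // orderOf u = 2 ∧ u * a * u⁻¹ = a⁻¹})) ⟨fun b c e => ?_, ?_⟩)).symm
  · rw [show s * (b : G) * a * (s * (b : G))⁻¹ = s * ((b : G) * a * (b : G)⁻¹) * s⁻¹ by group,
      h.A_comm b.2 ha, mul_inv_cancel_right, h.s_inv_A ha]
  · exact Subtype.ext (mul_left_cancel (congrArg Subtype.val e))
  · rintro ⟨u, hu2, hu⟩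
    have hN : u ∈ normalizer ((zpowers t ⊔ T : Subgroup G) : Set G) := by
      refine mem_normalizer_iff.2 fun x => ⟨fun hx => h.centA ha h1 ht ?_, fun hx => h.centA ha h1 ht ?_⟩
      · have := h.A_comm hx (inv_mem ha)
        have e : (u * x * u⁻¹) * a⁻¹ = a⁻¹ * (u * x * u⁻¹) := by
          rw [← hu]
          calc u * x * u⁻¹ * (u * a * u⁻¹) = u * (x * a) * u⁻¹ := by group
            _ = u * (a * x) * u⁻¹ := by rw [h.A_comm hx ha]
            _ = _ := by group
        exact (Commute.inv_right_iff.1 e).eq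
      · have e : (u * x * u⁻¹) * a⁻¹ = a⁻¹ * (u * x * u⁻¹) := h.A_comm hx (inv_mem ha)
        rw [← hu] at e
        calc x * a = u⁻¹ * (u * x * u⁻¹ * (u * a * u⁻¹)) * u := by group
          _ = u⁻¹ * (u * a * u⁻¹ * (u * x * u⁻¹)) * u := by rw [e]
          _ = a * x := by group
    rcases h.mem_normalizer_A hN with h' | h'
    · exfalso
      rw [h.A_comm h' ha, mul_inv_cancel_right] at hu
      exact ((h.A_sq ha).2 (mul_eq_one_iff_eq_inv.2 hu)).elim h1 ht
    · refine ⟨⟨s * u, h'⟩, Subtype.ext ?_⟩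
      show s * (s * u) = u
      rw [← mul_assoc, h.ree.sq, one_mul]

/-- A non-central element of `A` has order not prime to `d`, and not divisible by three. -/
theorem ord_A {a : G} (ha : a ∈ zpowers t ⊔ T) :
    ¬ 3 ∣ orderOf a ∧ ((orderOf a).Coprime d → a = 1 ∨ a = t) := by
  have hd := Subgroup.orderOf_dvd_natCard _ ha
  rw [h.ree.card_tT] at hd
  refine ⟨fun h3 => Nat.prime_three.not_dvd_mul (by norm_num) h.ree.three_not_dvd.1 (h3.trans hd),
    fun hc => (h.A_sq ha).2 ?_⟩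
  have h2 : orderOf a ∣ 2 := hc.dvd_of_dvd_mul_right hd
  rw [← pow_two]
  exact orderOf_dvd_iff_pow_eq_one.1 h2

/-- Elements of order not prime to `d` are conjugate into `A`. -/
theorem exists_conj_A {x : G} (hx : ¬ (orderOf x).Coprime d) :
    ∃ g : G, g * x * g⁻¹ ∈ zpowers t ⊔ T := by
  obtain ⟨l, hl, h1, h2⟩ := Nat.Prime.not_coprime_iff_dvd.1 hx
  obtain ⟨k, hk⟩ := exists_pow_prime h1
  obtain ⟨g, hg⟩ := h.ree.exists_conj_T hl h2 (x := x ^ k) (by rw [← hk, pow_orderOf_eq_one])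
  refine ⟨g, h.centT_le hg (fun e => ?_) ?_⟩
  · rw [conj_eq_one_iff] at e
    rw [e, orderOf_one] at hk
    exact hl.one_lt.ne hk
  · exact ((Commute.self_pow x k).map (MulAut.conj g).toMonoidHom).eq

open Classical in
/-- The set of non-central elements of `A`, its weight and its conjugates. -/
theorem sum_A (f : G → ℕ) (hf : ∀ g x : G, f (g * x * g⁻¹) = f x) (w : ℕ)
    (hw : ∀ a ∈ (zpowers t ⊔ T : Subgroup G), a ≠ 1 → a ≠ t → f a = w) :
    4 * d * ∑ x ∈ (Finset.univ.filter fun x : G => ¬ 3 ∣ orderOf x ∧ ¬ (orderOf x).Coprime d), f x = Nat.card G * ((2 * d - 2) * w) := by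
  set A : Subgroup G := zpowers t ⊔ T with hA
  set S := ((Finset.univ : Finset G).filter (· ∈ A)).erase 1 |>.erase t with hS
  have hm : ∀ x, x ∈ S ↔ x ∈ A ∧ x ≠ 1 ∧ x ≠ t := fun x => by
    simp only [hS, Finset.mem_erase, Finset.mem_filter, Finset.mem_univ, true_and]; tauto
  have hcS : S.card = 2 * d - 2 := by
    haveI : Fintype A := Fintype.ofFinite _
    have h4 : ((Finset.univ : Finset G).filter (· ∈ A)).card = 2 * d := by
      rw [← h.ree.card_tT, Nat.card_eq_fintype_card (α := A), Fintype.card_subtype]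
    rw [hS, Finset.card_erase_of_mem (by simp [hA, h.t_ne, mem_sup_left (mem_zpowers t)]),
      Finset.card_erase_of_mem (by simp), h4]
    omega
  have hord : ∀ a ∈ S, ¬ 3 ∣ orderOf a ∧ ¬ (orderOf a).Coprime d := fun a ha => by
    obtain ⟨haA, h1, ht⟩ := (hm a).1 ha
    exact ⟨(h.ord_A haA).1, fun hc => ((h.ord_A haA).2 hc).elim h1 ht⟩
  rw [sum_conj_union S (normalizer (A : Set G)) _ ?_ ?_ ?_ f hf,
    Finset.sum_congr rfl fun a ha => hw a ((hm a).1 ha).1 ((hm a).1 ha).2.1 ((hm a).1 ha).2.2,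
    Finset.sum_const, smul_eq_mul, hcS, ← mul_assoc, ← h.card_normalizer_A, card_mul_index]
  · intro x
    simp only [Finset.mem_filter, Finset.mem_univ, true_and]
    constructor
    · rintro ⟨h3, hd⟩
      obtain ⟨g, hg⟩ := h.exists_conj_A hd
      refine ⟨g, (hm _).2 ⟨hg, fun e => hd ?_, fun e => hd ?_⟩⟩
      · rw [← orderOf_conj' g, e, orderOf_one]; exact Nat.coprime_one_left d
      · rw [← orderOf_conj' g, e, h.ree.ht]
        exact Nat.coprime_two_left.2 (Nat.odd_iff.2 h.ree.d_odd)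
    · rintro ⟨g, hg⟩
      have := hord _ hg
      simpa only [orderOf_conj'] using this
  · intro g hg a ha
    obtain ⟨haA, h1, ht⟩ := (hm a).1 ha
    refine (hm _).2 ⟨(mem_normalizer_iff.1 hg a).1 haA, fun e => h1 (conj_eq_one_iff.1 e), fun e => ?_⟩
    rcases h.mem_normalizer_A hg with h' | h'
    · rw [h.A_comm h' haA, mul_inv_cancel_right] at e; exact ht e
    · have hs' : g = s * (s * g) := by rw [← mul_assoc, h.ree.sq, one_mul]
      rw [hs', show s * (s * g) * a * (s * (s * g))⁻¹ = s * (s * g * a * (s * g)⁻¹) * s⁻¹ by group,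
        h.A_comm h' haA, mul_inv_cancel_right, h.s_inv_A haA] at e
      exact ht (by rw [← inv_inv a, e, h.ree.t_inv])
  · intro g a ha hga
    obtain ⟨haA, h1, ht⟩ := (hm a).1 ha
    obtain ⟨hA', h1', ht'⟩ := (hm _).1 hga
    refine mem_normalizer_iff.2 fun x => ⟨fun hx => ?_, fun hx => ?_⟩
    · refine h.centA hA' h1' ht' ?_
      calc g * x * g⁻¹ * (g * a * g⁻¹) = g * (x * a) * g⁻¹ := by group
        _ = g * (a * x) * g⁻¹ := by rw [h.A_comm hx haA]
        _ = _ := by group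
    · refine h.centA haA h1 ht ?_
      calc x * a = g⁻¹ * (g * x * g⁻¹ * (g * a * g⁻¹)) * g := by group
        _ = g⁻¹ * (g * a * g⁻¹ * (g * x * g⁻¹)) * g := by rw [h.A_comm hx hA']
        _ = a * x := by group

/-- The element `x` is conjugate into `W` if its order is not prime to `|Y|`. -/
theorem exists_conj_W {x : G} (hx : ¬ (orderOf x).Coprime (Nat.card Y)) :
    ∃ g : G, g * x * g⁻¹ ∈ W := by
  obtain ⟨l, hl, h1, h2⟩ := Nat.Prime.not_coprime_iff_dvd.1 hx
  obtain ⟨k, hk⟩ := exists_pow_prime h1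
  have hlq : l ∣ q + 1 := h.cardY ▸ h2.mul_left 4
  have hr : ¬ l ∣ q ^ 3 * (2 * d) * 4 * (q ^ 2 - q + 1) := by
    intro hh
    have hl2 : l ≠ 2 := fun e => by
      have := h.cardY_odd.of_dvd_nat h2
      rw [e] at this
      exact absurd this (by decide)
    rcases hl.dvd_mul.1 hh with h' | h'
    · rcases hl.dvd_mul.1 h' with h' | h'
      · rcases hl.dvd_mul.1 h' with h' | h'
        · have := hl.dvd_of_dvd_pow h'
          exact hl.not_dvd_one ((Nat.dvd_add_right this).1 hlq)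
        · rcases hl.dvd_mul.1 h' with h' | h'
          · exact hl2 ((Nat.prime_dvd_prime_iff_eq hl Nat.prime_two).1 h')
          · exact hl.one_lt.ne' (Nat.eq_one_of_dvd_coprimes h.cop.1 h' hlq)
      · exact hl2 ((Nat.prime_dvd_prime_iff_eq hl Nat.prime_two).1
          (hl.dvd_of_dvd_pow (show l ∣ 2 ^ 2 by simpa using h')))
    · exact hl.one_lt.ne' (Nat.eq_one_of_dvd_coprimes h.cop.2 h' (hlq.mul_left _))
  obtain ⟨g, hg⟩ := exists_conj_hall (A := Y) hl rfl (r := q ^ 3 * (2 * d) * 4 * (q ^ 2 - q + 1))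
    (by rw [h.card_eq, ← h.cardY]; ring) hr (x := x ^ k) (by rw [← hk, pow_orderOf_eq_one])
  refine ⟨g, h.centY _ hg (fun e => ?_) _ ?_⟩
  · rw [conj_eq_one_iff] at e
    rw [e, orderOf_one] at hk
    exact hl.one_lt.ne hk
  · exact ((Commute.self_pow x k).map (MulAut.conj g).toMonoidHom).eq

/-- An element of `W` whose square is not trivial. -/
theorem ord_W {x : G} (hx : x ∈ W) (h2 : x * x ≠ 1) :
    ¬ 3 ∣ orderOf x ∧ (orderOf x).Coprime d ∧ ¬ (orderOf x).Coprime (Nat.card Y) ∧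
      ∀ g : G, g * x = x * g → g ∈ W := by
  have hd := Subgroup.orderOf_dvd_natCard _ hx
  rw [h.cardW] at hd
  have hy := h.sqW x hx
  refine ⟨fun h3 => h.ree.three_not_dvd.2.1 (h3.trans hd), h.cop.1.symm.coprime_dvd_left hd,
    fun hc => h2 ?_, fun g hg => h.centY _ hy h2 g ((show Commute g x from hg).mul_right hg).eq⟩
  refine orderOf_eq_one_iff.1 (Nat.eq_one_of_dvd_coprimes hc ?_ (Subgroup.orderOf_dvd_natCard Y hy))
  rw [← pow_two]
  exact orderOf_pow_dvd 2

open Classical in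
/-- The elements with `q + 1`-torus part, their weight. -/
theorem sum_W (f : G → ℕ) (hf : ∀ g x : G, f (g * x * g⁻¹) = f x) (w : ℕ)
    (hw : ∀ x ∈ W, x * x ≠ 1 → f x = w) :
    6 * (q + 1) * ∑ x ∈ (Finset.univ.filter fun x : G => ¬ 3 ∣ orderOf x ∧ (orderOf x).Coprime d ∧
      ¬ (orderOf x).Coprime (Nat.card Y)), f x = Nat.card G * ((q - 3) * w) := by
  set S := (Finset.univ : Finset G).filter (fun x => x ∈ W ∧ x * x ≠ 1) with hS
  have hm : ∀ x, x ∈ S ↔ x ∈ W ∧ x * x ≠ 1 := fun x => by simp [hS]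
  have hcS : S.card = q - 3 := by
    haveI : Fintype W := Fintype.ofFinite _
    have h4 : ((Finset.univ : Finset G).filter (· ∈ W)).card = q + 1 := by
      rw [← h.cardW, Nat.card_eq_fintype_card (α := W), Fintype.card_subtype]
    have h5 : ((Finset.univ : Finset G).filter (fun x => x ∈ W ∧ x * x = 1)).card = 4 := by
      rw [← h.card_sqW, Nat.card_eq_fintype_card, Fintype.card_subtype]
      refine (Finset.card_bij (fun (x : W) _ => (x : G)) ?_ ?_ ?_).symm
      · intro x hx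
        simpa using hx
      · exact fun _ _ _ _ e => Subtype.ext e
      · intro x hx
        simp only [Finset.mem_filter, Finset.mem_univ, true_and] at hx
        exact ⟨⟨x, hx.1⟩, by simp [hx.2], rfl⟩
    have h6 : ((Finset.univ : Finset G).filter (fun x => x ∈ W ∧ x * x = 1)).card + S.card = q + 1 := by
      rw [← h4, hS, ← Finset.filter_filter, ← Finset.filter_filter,
        Finset.card_filter_add_card_filter_not]
    omega
  rw [sum_conj_union S (normalizer (W : Set G)) _ ?_ ?_ ?_ f hf,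
    Finset.sum_congr rfl fun x hx => hw x ((hm x).1 hx).1 ((hm x).1 hx).2,
    Finset.sum_const, smul_eq_mul, hcS, ← mul_assoc, ← h.cardNW, card_mul_index]
  · intro x
    simp only [Finset.mem_filter, Finset.mem_univ, true_and]
    constructor
    · rintro ⟨-, -, hY⟩
      obtain ⟨g, hg⟩ := h.exists_conj_W hY
      refine ⟨g, (hm _).2 ⟨hg, fun e => hY ?_⟩⟩
      rw [← orderOf_conj' g]
      exact (Nat.coprime_two_left.2 h.cardY_odd).coprime_dvd_left
        (orderOf_dvd_of_pow_eq_one (by rw [pow_two]; exact e))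
    · rintro ⟨g, hg⟩
      obtain ⟨hgW, h2⟩ := (hm _).1 hg
      have := h.ord_W hgW h2
      simp only [orderOf_conj'] at this
      exact ⟨this.1, this.2.1, this.2.2.1⟩
  · intro g hg x hx
    obtain ⟨hxW, h2⟩ := (hm x).1 hx
    refine (hm _).2 ⟨(mem_normalizer_iff.1 hg x).1 hxW, fun e => h2 ?_⟩
    have e' : g * (x * x) * g⁻¹ = 1 := by rw [← e]; group
    exact conj_eq_one_iff.1 e'
  · intro g x hx hgx
    obtain ⟨hxW, h2⟩ := (hm x).1 hx
    obtain ⟨hW', h2'⟩ := (hm _).1 hgx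
    refine mem_normalizer_iff.2 fun y => ⟨fun hy => ?_, fun hy => ?_⟩
    · refine (h.ord_W hW' h2').2.2.2 _ ?_
      calc g * y * g⁻¹ * (g * x * g⁻¹) = g * (y * x) * g⁻¹ := by group
        _ = g * (x * y) * g⁻¹ := by rw [h.commW y hy x hxW]
        _ = _ := by group
    · refine (h.ord_W hxW h2).2.2.2 _ ?_
      calc y * x = g⁻¹ * (g * y * g⁻¹ * (g * x * g⁻¹)) * g := by group
        _ = g⁻¹ * (g * x * g⁻¹ * (g * y * g⁻¹)) * g := by rw [h.commW _ hy _ hW']
        _ = x * y := by group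

end Setting

end Cfsg.Agent.Lib.ReeTorus80
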